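import Cfsg.Agent.H811.S69.SpLin
import Cfsg.Agent.S0245

/-!
# S3469, T5a: field automorphisms of odd prime order, symplectic case (helper811)

* `false_of_comm` : the general contradiction;
* `gpm` : the permutation given by an invertible matrix;
* `card_fix` : the fixed field of an automorphism;
* `phi θ` : coordinatewise `θ`;
* `sp_odd`.
-/

set_option autoImplicit false
set_option linter.style.haveILetI false
set_option linter.unusedVariables false

universe u v

namespace Cfsg.Agent.H811.S69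

open Cfsg Cfsg.Agent Cfsg.Agent.H903.SylSemi Cfsg.Agent.H214.S69
open Cfsg.Agent.H403.Classify

section comm

variable {F X M : Type*} [Field F] [AddCommGroup X] [Module F X] [Nontrivial X] [Group M]

/-- A semilinear map of odd prime order in the group of a frame does not commute (up to scalars) both with an element
of prime order `r`, `r` dividing `mm q`, and with an involution. -/
theorem false_of_comm {q : ℕ} (hs : Up8 q M) {H : Subgroup (Equiv.Perm X)} (Φ : ↥H →* M)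
    (ker : ∀ y : ↥H, Φ y = 1 ↔ ∃ a : Fˣ, (y : Equiv.Perm X) = scal F X a)
    {φ : Equiv.Perm X} (hφ : φ ∈ H) {θ : F ≃+* F} (hφs : Semi F φ θ) {t : ℕ} (ht : t.Prime) (ht2 : t ≠ 2)
    (hθ : orderOf θ = t) (hφt : φ ^ t = 1) {x : Equiv.Perm X} (hx : x ∈ H) {r : ℕ} (hr : r.Prime)
    (hrm : r ∣ H202.T.mm q) (hxr : ∃ a : Fˣ, x ^ r = scal F X a) (hxn : ¬ ∃ a : Fˣ, x = scal F X a)
    (hxφ : x * φ = φ * x) {s : Equiv.Perm X} (hsH : s ∈ H) (hs2 : ∃ a : Fˣ, s ^ 2 = scal F X a)
    (hsn : ¬ ∃ a : Fˣ, s = scal F X a) (hsφ : s * φ = φ * s) : False := by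
  have ht1 : θ ≠ 1 := by
    rintro rfl
    rw [orderOf_one] at hθ
    exact ht.one_lt.ne hθ
  have order : ∀ {z : Equiv.Perm X} (hz : z ∈ H) {ℓ : ℕ}, ℓ.Prime → (∃ a : Fˣ, z ^ ℓ = scal F X a) →
      (¬ ∃ a : Fˣ, z = scal F X a) → orderOf (Φ ⟨z, hz⟩) = ℓ := by
    intro z hz ℓ hℓ h1 h2
    haveI : Fact ℓ.Prime := ⟨hℓ⟩
    apply orderOf_eq_prime
    · rw [← map_pow, ker]
      exact h1
    · rw [Ne, ker]
      exact h2
  have oφ : orderOf (Φ ⟨φ, hφ⟩) = t := order hφ ht ⟨1, by rw [hφt, map_one]⟩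
    (fun ⟨a, ha⟩ => semi_ne_scal hφs ht1 a ha)
  have ox := order hx hr hxr hxn
  have os := order hsH Nat.prime_two hs2 hsn
  have comm : ∀ {z : Equiv.Perm X} (hz : z ∈ H), z * φ = φ * z → Commute (Φ ⟨z, hz⟩) (Φ ⟨φ, hφ⟩) := by
    intro z hz h
    show Φ _ * Φ _ = Φ _ * Φ _
    rw [← map_mul, ← map_mul]
    congr 1
    exact Subtype.ext h
  have htm : t ∣ H202.T.mm q := by
    by_cases htr : r = t
    · rwa [← htr]
    · have h1 := (comm hx hxφ).orderOf_mul_eq_mul_orderOf_of_coprime (by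
        rw [ox, oφ]; exact (Nat.coprime_primes hr ht).2 htr)
      rw [ox, oφ] at h1
      have h2 := up8_iso hs hr hrm (x := Φ ⟨x, hx⟩ * Φ ⟨φ, hφ⟩) (by rw [h1]; exact Dvd.intro _ rfl)
      rw [h1] at h2
      exact (Dvd.intro_left _ rfl : t ∣ r * t).trans h2
  have h3 := (comm hsH hsφ).orderOf_mul_eq_mul_orderOf_of_coprime (by
    rw [os, oφ]; exact (Nat.coprime_primes Nat.prime_two ht).2 (Ne.symm ht2))
  rw [os, oφ] at h3
  exact up8_not_two hs ht htm (x := Φ ⟨s, hsH⟩ * Φ ⟨φ, hφ⟩) (by rw [h3]; exact Dvd.intro_left _ rfl)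
    (by rw [h3]; exact Dvd.intro _ rfl)

end comm

section gpm

variable {F : Type*} [Field F] {ι : Type*} [Fintype ι] [DecidableEq ι]

/-- the permutation given by an invertible matrix -/
def gpm : Matrix.GeneralLinearGroup ι F →* Equiv.Perm (ι → F) where
  toFun g :=
    { toFun := fun v => (g : Matrix ι ι F).mulVec v
      invFun := fun v => ((g⁻¹ : Matrix.GeneralLinearGroup ι F) : Matrix ι ι F).mulVec v
      left_inv := fun v => by
        beta_reduce
        rw [Matrix.mulVec_mulVec, ← Units.val_mul, inv_mul_cancel, Units.val_one, Matrix.one_mulVec]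
      right_inv := fun v => by
        beta_reduce
        rw [Matrix.mulVec_mulVec, ← Units.val_mul, mul_inv_cancel, Units.val_one, Matrix.one_mulVec] }
  map_one' := by
    ext v : 1
    exact Matrix.one_mulVec v
  map_mul' g h := by
    ext v : 1
    exact (Matrix.mulVec_mulVec v _ _).symm

@[simp] theorem gpm_apply (g : Matrix.GeneralLinearGroup ι F) (v : ι → F) :
    gpm g v = (g : Matrix ι ι F).mulVec v := rfl

theorem gpm_semi (g : Matrix.GeneralLinearGroup ι F) : Semi F (gpm g) (RingEquiv.refl F) :=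
  ⟨fun u v => Matrix.mulVec_add _ _ _, fun a v => Matrix.mulVec_smul _ _ _⟩

/-- coordinatewise `θ` -/
def phi (ι : Type*) (θ : F ≃+* F) : Equiv.Perm (ι → F) := Equiv.piCongrRight fun _ => θ.toEquiv

omit [Fintype ι] [DecidableEq ι] in
theorem phi_apply (θ : F ≃+* F) (v : ι → F) (i : ι) : phi ι θ v i = θ (v i) := rfl

omit [Fintype ι] [DecidableEq ι] in
theorem phi_semi (θ : F ≃+* F) : Semi F (phi ι θ) θ :=
  ⟨fun u v => funext fun i => map_add θ _ _, fun a v => funext fun i => map_mul θ _ _⟩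

omit [Fintype ι] [DecidableEq ι] in
theorem phi_pow (θ : F ≃+* F) (n : ℕ) : (phi ι θ) ^ n = phi ι (θ ^ n) := by
  induction n with
  | zero => rfl
  | succ n ih => rw [pow_succ, ih]; rfl

/-- matrices with entries fixed by `θ` commute with `phi θ` -/
theorem gpm_phi (g : Matrix.GeneralLinearGroup ι F) (θ : F ≃+* F)
    (hg : ∀ i j, θ ((g : Matrix ι ι F) i j) = (g : Matrix ι ι F) i j) : gpm g * phi ι θ = phi ι θ * gpm g := by
  ext v i
  rw [Equiv.Perm.mul_apply, Equiv.Perm.mul_apply, gpm_apply, phi_apply, gpm_apply, Matrix.mulVec, Matrix.mulVec,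
    dotProduct, dotProduct, map_sum]
  refine Finset.sum_congr rfl fun j _ => ?_
  rw [map_mul, hg, phi_apply]

end gpm

section field

variable {F : Type*} [Field F] [Finite F]

theorem card_fix (σ : F ≃+* F) :
    ∃ (K : Subfield F), (∀ a, a ∈ K ↔ σ a = a) ∧ Nat.card K ^ orderOf σ = Nat.card F := by
  classical
  have : Finite (F ≃+* F) := DFunLike.finite _
  let _ : Fintype (Subgroup.zpowers σ) := Fintype.ofFinite _
  refine ⟨FixedPoints.subfield (Subgroup.zpowers σ) F, fun a => ?_, ?_⟩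
  · constructor
    · intro h
      exact h ⟨σ, Subgroup.mem_zpowers σ⟩
    · rintro h ⟨τ, hτ⟩
      have h1 : Subgroup.zpowers σ ≤ MulAction.stabilizer (F ≃+* F) a := by
        rw [Subgroup.zpowers_le]
        exact h
      exact h1 hτ
  · have h1 := FixedPoints.finrank_eq_card (Subgroup.zpowers σ) F
    rw [Fintype.card_eq_nat_card, Nat.card_zpowers] at h1
    rw [← h1]
    exact (Module.natCard_eq_pow_finrank
      (K := FixedPoints.subfield (Subgroup.zpowers σ) F) (V := F)).symm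

/-- `mm q₀` divides `mm q` for `q = q₀ ^ t`, `t` odd -/
theorem prime_mm {q₀ q t r : ℕ} (h : q₀ ^ t = q) (ht : Odd t) (hq : Odd q) (hq₀ : Odd q₀) (hr : r.Prime)
    (hrm : r ∣ H202.T.mm q₀) : r ∣ H202.T.mm q := by
  have h1 : q₀ ^ 4 + 1 ∣ q ^ 4 + 1 := by
    have := ht.nat_add_dvd_pow_add_pow (q₀ ^ 4) 1
    rw [one_pow, ← pow_mul, mul_comm 4 t, pow_mul, h] at this
    exact this
  rw [← H202.T.two_mm hq, ← H202.T.two_mm hq₀] at h1
  exact hrm.trans (Nat.dvd_of_mul_dvd_mul_left (by norm_num) h1)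

end field

section sp

open Cfsg.Agent.ClassicalGeometry.SympBasic

variable {F : Type*} [Field F] {m : ℕ}

theorem J_map {K : Type*} [Field K] (j : K →+* F) : (Matrix.J (Fin m) K).map j = Matrix.J (Fin m) F :=
  Matrix.map_J (Fin m) j

theorem map_mem_sp {K : Type*} [Field K] (j : K →+* F) (A : Matrix.symplecticGroup (Fin m) K) :
    A.1.map j ∈ Matrix.symplecticGroup (Fin m) F := SymplecticGroup.map_mem A.2 j

/-- the elements of `Sp(K)` as invertible matrices over `F` -/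
def sgl {K : Type*} [Field K] (j : K →+* F) (m : ℕ) :
    Matrix.symplecticGroup (Fin m) K →* Matrix.GeneralLinearGroup (Fin m ⊕ Fin m) F :=
  MonoidHom.toHomUnits (((RingHom.mapMatrix j : Matrix (Fin m ⊕ Fin m) (Fin m ⊕ Fin m) K →+* _) :
    Matrix (Fin m ⊕ Fin m) (Fin m ⊕ Fin m) K →* Matrix (Fin m ⊕ Fin m) (Fin m ⊕ Fin m) F).comp
      (Matrix.symplecticGroup (Fin m) K).subtype)

theorem coe_sgl {K : Type*} [Field K] (j : K →+* F) (A : Matrix.symplecticGroup (Fin m) K) :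
    ((sgl j m A : Matrix.GeneralLinearGroup (Fin m ⊕ Fin m) F) : Matrix _ _ F) = A.1.map j := rfl

theorem isSpMap_sgl {K : Type*} [Field K] (j : K →+* F) (A : Matrix.symplecticGroup (Fin m) K) :
    IsSpMap F m (gpm (sgl j m A)) :=
  ⟨gpm_semi _, fun u v => ClassicalGeometry.SympBasic.sympForm_mulVec (map_mem_sp j A) u v⟩

/-- an isometry which is a scalar is an involution -/
theorem sq_of_scal {F : Type*} [Field F] {g : Equiv.Perm (Fin 4 ⊕ Fin 4 → F)} (hg : IsSpMap F 4 g) {a : Fˣ}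
    (h : g = scal F _ a) : g ^ 2 = 1 := by
  have h1 := hg.2 (Pi.single (Sum.inr 0) 1) (Pi.single (Sum.inl 0) 1)
  rw [h, scal_apply, scal_apply, sympForm_smul_left, sympForm_smul_right, sympForm_single_inr_left,
    Pi.single_eq_same, mul_one] at h1
  rw [h, ← map_pow]
  have h2 : a ^ 2 = 1 := Units.ext (by rw [pow_two]; exact h1)
  rw [h2, map_one]

theorem phi_sp (θ : F ≃+* F) (u v : Fin m ⊕ Fin m → F) :
    sympForm m F (phi _ θ u) (phi _ θ v) = θ (sympForm m F u v) := by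
  rw [sympForm_eq_sum, sympForm_eq_sum, map_sum]
  refine Finset.sum_congr rfl fun i _ => ?_
  rw [map_sub, map_mul, map_mul, phi_apply, phi_apply, phi_apply, phi_apply]

/-- the group of a frame which contains a semilinear map with companion of odd order contains the standard one -/
theorem phi_mem_sp {F : Type*} [Field F] [Fintype F] (ho : Odd (Fintype.card F)) {M : Type*} [Group M]
    (fr : SpFrame F 4 M) (y : ↥fr.H) {θ : F ≃+* F} (hy : Semi F y.1 θ) (hθ : Odd (orderOf θ)) :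
    phi (Fin 4 ⊕ Fin 4) θ ∈ fr.H := by
  obtain ⟨θ', τ, hτ0, hy', hτ⟩ := fr.semi y.1 y.2
  obtain rfl := semi_unique hy hy'
  set φ := phi (Fin 4 ⊕ Fin 4) θ with hφ
  obtain ⟨μ, hμ0, hμ⟩ : ∃ μ : F, μ ≠ 0 ∧ τ * θ τ = μ ^ 2 := by
    by_cases hsq : IsSquare τ
    · obtain ⟨d, hd⟩ := hsq
      refine ⟨d * θ d, mul_ne_zero ?_ ?_, ?_⟩
      · rintro rfl; exact hτ0 (by rw [hd, mul_zero])
      · intro h0
        rw [map_eq_zero] at h0
        exact hτ0 (by rw [hd, h0, mul_zero])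
      · rw [hd, map_mul]; ring
    · have hsq' : ¬ IsSquare (θ τ) := by
        rintro ⟨d, hd⟩
        apply hsq
        refine ⟨θ.symm d, θ.injective ?_⟩
        rw [hd, map_mul, θ.apply_symm_apply]
      obtain ⟨ν, hν0, hν⟩ := exists_sq_mul ho hsq' hsq
      refine ⟨ν * τ, mul_ne_zero hν0 hτ0, ?_⟩
      rw [hν]; ring
  have hφ2 : φ ^ 2 ∈ fr.H := by
    have h1 : scal F _ (Units.mk0 μ hμ0)⁻¹ * (y.1 ^ 2 * (φ ^ 2)⁻¹) ∈ fr.H := by
      apply fr.isom
      refine ⟨?_, fun u v => ?_⟩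
      · have h2 := semi_mul (semi_scal (V := Fin 4 ⊕ Fin 4 → F) (Units.mk0 μ hμ0)⁻¹)
          (semi_mul (semi_pow hy 2) (semi_inv (semi_pow (phi_semi (ι := Fin 4 ⊕ Fin 4) θ) 2)))
        rw [one_mul, mul_inv_cancel] at h2
        exact h2
      · have h3 : ∀ u v, sympForm 4 F ((φ ^ 2) u) ((φ ^ 2) v) = θ (θ (sympForm 4 F u v)) := fun u v => by
          rw [pow_two, Equiv.Perm.mul_apply, Equiv.Perm.mul_apply, hφ, phi_sp, phi_sp]
        have h4 : ∀ u v, sympForm 4 F ((y.1 ^ 2) u) ((y.1 ^ 2) v) = μ ^ 2 * θ (θ (sympForm 4 F u v)) := fun u v => by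
          rw [pow_two, Equiv.Perm.mul_apply, Equiv.Perm.mul_apply, hτ, hτ, map_mul, ← mul_assoc, hμ]
        have h5 := h3 ((φ ^ 2)⁻¹ u) ((φ ^ 2)⁻¹ v)
        rw [perm_apply_inv, perm_apply_inv] at h5
        rw [Equiv.Perm.mul_apply, Equiv.Perm.mul_apply, Equiv.Perm.mul_apply, Equiv.Perm.mul_apply, scal_apply,
          scal_apply, sympForm_smul_left, sympForm_smul_right, h4, ← h5, Units.val_inv_eq_inv_val, Units.val_mk0]
        field_simp
    have h6 := fr.H.mul_mem (fr.H.inv_mem h1) (fr.H.mul_mem (fr.scal_mem (Units.mk0 μ hμ0)⁻¹) (fr.H.pow_mem y.2 2))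
    have h7 : (scal F (Fin 4 ⊕ Fin 4 → F) (Units.mk0 μ hμ0)⁻¹ * (y.1 ^ 2 * (φ ^ 2)⁻¹))⁻¹ *
        (scal F _ (Units.mk0 μ hμ0)⁻¹ * y.1 ^ 2) = φ ^ 2 := by group
    rwa [h7] at h6
  obtain ⟨k, hk⟩ := hθ
  have h8 := fr.H.pow_mem hφ2 (k + 1)
  have h9 : (φ ^ 2) ^ (k + 1) = φ := by
    rw [← pow_mul, show 2 * (k + 1) = (2 * k + 1) + 1 by ring, pow_succ, hφ, phi_pow, ← hk, pow_orderOf_eq_one]
    rfl
  rwa [h9] at h8

end sp

/-- **T5a, field automorphisms of odd prime order, symplectic case.** -/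
theorem sp_odd {F : Type} [Field F] [Fintype F] [CharP F 7] {M : Type u} [Group M] [Finite M]
    (hs : Up8 (Fintype.card F) M) (fr : SpFrame F 4 M) (y : ↥fr.H) {θ : F ≃+* F} (hy : Semi F y.1 θ) {t : ℕ}
    (ht : t.Prime) (ht2 : t ≠ 2) : orderOf θ ≠ t := by
  intro hθ
  have hto : Odd t := ht.odd_of_ne_two ht2
  have ho : Odd (Fintype.card F) := up8_odd hs
  have hφ := phi_mem_sp ho fr y hy (by rwa [hθ])
  obtain ⟨K, hK, hKc⟩ := card_fix θ
  rw [hθ, Nat.card_eq_fintype_card (α := F)] at hKc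
  letI : Fintype K := Fintype.ofFinite K
  have hK3 : 3 ≤ Nat.card K := by
    have h1 : Odd (Nat.card K) := by
      rcases Nat.even_or_odd (Nat.card K) with h | h
      · rw [← hKc] at ho
        exact absurd ho (by rw [Nat.not_odd_iff_even]; exact h.pow_of_ne_zero ht.ne_zero)
      · exact h
    have h2 : 1 < Nat.card K := Finite.one_lt_card
    obtain ⟨k, hk⟩ := h1
    omega
  have hKo : Odd (Nat.card K) := by
    rcases Nat.even_or_odd (Nat.card K) with h | h
    · rw [← hKc] at ho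
      exact absurd ho (by rw [Nat.not_odd_iff_even]; exact h.pow_of_ne_zero ht.ne_zero)
    · exact h
  obtain ⟨r, hr, hrm⟩ := H202.T.exists_prime_mm hK3
  haveI : Fact r.Prime := ⟨hr⟩
  have hrm' := prime_mm hKc hto ho hKo hr hrm
  have hr2 := H202.T.ne_two_of_dvd hKo hrm
  -- an element of order `r` of `Sp₈(K)`
  obtain ⟨A, hA⟩ : ∃ A : Matrix.symplecticGroup (Fin 4) K, orderOf A = r := by
    haveI : Finite (Matrix.symplecticGroup (Fin 4) K) := inferInstance
    apply exists_prime_orderOf_dvd_card'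
    rw [S0245.result (F := K) (q := Nat.card K) (Nat.card_eq_fintype_card).symm 4]
    refine Dvd.dvd.mul_left ?_ _
    refine Dvd.dvd.trans ?_ (Finset.dvd_prod_of_mem _ (Finset.mem_range.2 (show 3 < 4 by norm_num)))
    have h1 : r ∣ Nat.card K ^ 4 + 1 := by rw [← H202.T.two_mm hKo]; exact hrm.mul_left 2
    have h2 : Nat.card K ^ (2 * (3 + 1)) - 1 = (Nat.card K ^ 4 + 1) * (Nat.card K ^ 4 - 1) := by
      have := Nat.sq_sub_sq (Nat.card K ^ 4) 1
      rw [one_pow, ← pow_mul] at this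
      exact this
    rw [h2]
    exact h1.mul_right _
  have hfix : ∀ B : Matrix.symplecticGroup (Fin 4) K, gpm (sgl K.subtype 4 B) * phi _ θ =
      phi _ θ * gpm (sgl K.subtype 4 B) := fun B => gpm_phi _ θ fun i j => (hK _).1 (B.1 i j).2
  have hinj : ∀ B : Matrix.symplecticGroup (Fin 4) K, gpm (sgl K.subtype 4 B) = 1 → B = 1 := by
    intro B hB
    apply Subtype.ext
    have h1 : B.1.map K.subtype = (1 : Matrix (Fin 4 ⊕ Fin 4) (Fin 4 ⊕ Fin 4) F) := by
      apply Matrix.toLin'.injective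
      refine LinearMap.ext fun v => ?_
      rw [Matrix.toLin'_apply, Matrix.toLin'_apply, Matrix.one_mulVec]
      exact DFunLike.congr_fun hB v
    apply Matrix.map_injective K.subtype.injective
    show B.1.map K.subtype = (1 : Matrix _ _ K).map K.subtype
    rw [h1]
    simp
  -- an element of order 4 of `Sp₈(K)` with square `-1`
  have hJ : Matrix.J (Fin 4) K ∈ Matrix.symplecticGroup (Fin 4) K := SymplecticGroup.J_mem (Fin 4) K
  refine false_of_comm hs fr.Φ fr.ker hφ (phi_semi θ) ht ht2 hθ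
    (by rw [phi_pow, ← hθ, pow_orderOf_eq_one]; rfl)
    (fr.isom _ (isSpMap_sgl K.subtype A)) hr hrm' ⟨1, ?_⟩ ?_ (hfix A)
    (fr.isom _ (isSpMap_sgl K.subtype ⟨_, hJ⟩)) ⟨-1, ?_⟩ ?_ (hfix _)
  · rw [← map_pow, ← map_pow, ← hA, pow_orderOf_eq_one, map_one, map_one, map_one]
  · rintro ⟨a, ha⟩
    have h1 := sq_of_scal (isSpMap_sgl K.subtype A) ha
    rw [← map_pow, ← map_pow] at h1
    have h2 := orderOf_dvd_of_pow_eq_one (hinj _ h1)
    rw [hA] at h2
    exact hr2 ((Nat.prime_dvd_prime_iff_eq hr Nat.prime_two).1 h2)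
  · ext v : 1
    rw [pow_two, Equiv.Perm.mul_apply, gpm_apply, gpm_apply, coe_sgl, Matrix.mulVec_mulVec, J_map]
    rw [Matrix.J_squared, Matrix.neg_mulVec, Matrix.one_mulVec, scal_apply, Units.val_neg, Units.val_one,
      neg_one_smul]
  · rintro ⟨a, ha⟩
    have h1 := DFunLike.congr_fun ha (Pi.single (Sum.inl 0) 1)
    rw [gpm_apply, coe_sgl, J_map, scal_apply] at h1
    have h2 := congrFun h1 (Sum.inr 0)
    rw [ClassicalGeometry.SympBasic.J_mulVec_inr, Pi.smul_apply, Pi.single_eq_same, Pi.single_eq_of_ne (by simp), smul_zero] at h2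
    exact one_ne_zero h2

end Cfsg.Agent.H811.S69
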