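import Cfsg.Agent.H811.S69.OLin
import Cfsg.Agent.H811.S69.SpOdd
import Cfsg.Agent.H193.QuadEmb
import Cfsg.Agent.S0288

/-!
# S3469, T5a: field automorphisms of odd prime order, orthogonal case (helper811)

* `det_sq_of_sim` : the determinant of a similitude;
* `ext_iso` : isometries over a subfield;
* `phi_mem_o`, `o_odd`.
-/

set_option autoImplicit false
set_option linter.style.haveILetI false
set_option linter.unusedVariables false

universe u v

namespace Cfsg.Agent.H811.S69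

open Cfsg Cfsg.Agent Cfsg.Agent.H903.SylSemi Cfsg.Agent.H214.S69
open Cfsg.Agent.LieClassical.OrthCore Cfsg.Agent.LieClassical.OrthForms

section det

variable {F : Type*} [Field F] {ι : Type*} [Fintype ι] [DecidableEq ι]

theorem det_sq_of_sim {Q : QuadraticForm F (ι → F)} (hQ : Nondeg Q) (W : Matrix ι ι F) (τ : F)
    (hW : ∀ v, Q (W.mulVec v) = τ * Q v) : W.det ^ 2 = τ ^ Fintype.card ι := by
  let B : LinearMap.BilinForm F (ι → F) := QuadraticMap.polarBilin Q
  have hB : B.comp (Matrix.toLin' W) (Matrix.toLin' W) = τ • B := by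
    refine LinearMap.ext₂ fun x y => ?_
    show QuadraticMap.polar Q (Matrix.toLin' W x) (Matrix.toLin' W y) = τ * QuadraticMap.polar Q x y
    rw [Matrix.toLin'_apply, Matrix.toLin'_apply]
    simp only [QuadraticMap.polar]
    rw [← Matrix.mulVec_add, hW, hW, hW]
    ring
  have h1 := congrArg LinearMap.BilinForm.toMatrix' hB
  rw [LinearMap.BilinForm.toMatrix'_comp, map_smul, LinearMap.toMatrix'_toLin'] at h1
  have h2 := congrArg Matrix.det h1
  rw [Matrix.det_mul, Matrix.det_mul, Matrix.det_transpose, Matrix.det_smul] at h2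
  have h3 : (LinearMap.BilinForm.toMatrix' B).det ≠ 0 := by
    intro h0
    obtain ⟨v, hv, hv0⟩ := Matrix.exists_mulVec_eq_zero_iff.2 h0
    apply hv
    apply hQ
    intro x
    rw [QuadraticMap.polar_comm]
    have h4 : B x v = x ⬝ᵥ (LinearMap.BilinForm.toMatrix' B).mulVec v := by
      rw [← Matrix.toBilin'_apply', Matrix.toBilin'_toMatrix']
    show B x v = 0
    rw [h4, hv0, dotProduct_zero]
  apply mul_right_cancel₀ h3
  linear_combination h2

end det

section ext

variable {F : Type*} [Field F] {K : Type*} [Field K] {ι : Type*} [Fintype ι] [DecidableEq ι]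

theorem quad_ext' {Q Q' : QuadraticForm F (ι → F)} (h1 : ∀ i, Q (Pi.single i 1) = Q' (Pi.single i 1))
    (h2 : ∀ i k, Q (Pi.single i 1 + Pi.single k 1) = Q' (Pi.single i 1 + Pi.single k 1)) : Q = Q' := by
  classical
  have hB : QuadraticMap.polarBilin Q = QuadraticMap.polarBilin Q' := by
    refine LinearMap.BilinForm.ext_basis (Pi.basisFun F ι) ?_
    intro i k
    rw [Pi.basisFun_apply, Pi.basisFun_apply, QuadraticMap.polarBilin_apply_apply,
      QuadraticMap.polarBilin_apply_apply, QuadraticMap.polar, QuadraticMap.polar, h1, h1, h2]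
  have hB' : ∀ u v, QuadraticMap.polar Q u v = QuadraticMap.polar Q' u v := fun u v => LinearMap.congr_fun₂ hB u v
  have h3 : ∀ (s : Finset ι) (v : ι → F), Q (∑ i ∈ s, v i • Pi.single i (1 : F)) =
      Q' (∑ i ∈ s, v i • Pi.single i (1 : F)) := by
    intro s v
    induction s using Finset.induction_on with
    | empty => rw [Finset.sum_empty, QuadraticMap.map_zero, QuadraticMap.map_zero]
    | insert a s ha ih =>
      rw [Finset.sum_insert ha, QuadraticMap.map_add Q, QuadraticMap.map_add Q', ih, hB', QuadraticMap.map_smul,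
        QuadraticMap.map_smul, h1]
  ext v
  have h4 : v = ∑ i, v i • Pi.single i (1 : F) := by
    funext k
    rw [Finset.sum_apply]
    simp [Pi.single_apply]
  rw [h4]
  exact h3 _ _

/-- An isometry over a subfield is an isometry. -/
theorem ext_iso (j : K →+* F) {Q₀ : QuadraticForm K (ι → K)} {Q : QuadraticForm F (ι → F)}
    (app : ∀ v : ι → K, Q (fun i => j (v i)) = j (Q₀ v)) {A : Matrix ι ι K} (hA : ∀ v, Q₀ (A.mulVec v) = Q₀ v)
    (v : ι → F) : Q ((A.map j).mulVec v) = Q v := by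
  have mv : ∀ v : ι → K, (A.map j).mulVec (fun i => j (v i)) = fun i => j (A.mulVec v i) := by
    intro v
    funext i
    simp [Matrix.mulVec, dotProduct, map_sum]
  have s1 : ∀ i, (fun k => j ((Pi.single i 1 : ι → K) k)) = (Pi.single i 1 : ι → F) := by
    intro i
    funext k
    by_cases hk : k = i
    · subst hk
      simp
    · simp [Pi.single_eq_of_ne hk]
  have s2 : ∀ i k, (fun l => j ((Pi.single i 1 + Pi.single k 1 : ι → K) l)) =
      (Pi.single i 1 + Pi.single k 1 : ι → F) := by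
    intro i k
    rw [← s1 i, ← s1 k]
    funext l
    simp
  have h1 : Q.comp (A.map j).mulVecLin = Q := by
    apply quad_ext'
    · intro i
      rw [← s1 i]
      change Q ((A.map j).mulVec _) = Q _
      rw [mv, app, app, hA]
    · intro i k
      rw [← s2 i k]
      change Q ((A.map j).mulVec _) = Q _
      rw [mv, app, app, hA]
  exact DFunLike.congr_fun h1 v

end ext

section gl

variable {F : Type*} [Field F] {ι : Type*} [Fintype ι] [DecidableEq ι]

theorem gpm_injective : Function.Injective (gpm (F := F) (ι := ι)) := by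
  intro g h H
  apply Units.ext
  apply Matrix.toLin'.injective
  refine LinearMap.ext fun v => ?_
  rw [Matrix.toLin'_apply, Matrix.toLin'_apply]
  exact DFunLike.congr_fun H v

/-- a linear equivalence as an invertible matrix -/
theorem exists_gl (e : (ι → F) ≃ₗ[F] (ι → F)) : ∃ E : Matrix.GeneralLinearGroup ι F, gpm E = e.toEquiv := by
  refine ⟨⟨LinearMap.toMatrix' e.toLinearMap, LinearMap.toMatrix' e.symm.toLinearMap, ?_, ?_⟩, ?_⟩
  · rw [← LinearMap.toMatrix'_comp, LinearEquiv.comp_symm, LinearMap.toMatrix'_id]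
  · rw [← LinearMap.toMatrix'_comp, LinearEquiv.symm_comp, LinearMap.toMatrix'_id]
  · ext v : 1
    rw [gpm_apply]
    exact LinearMap.toMatrix'_mulVec _ _

/-- a bijective linear map as an invertible matrix -/
theorem exists_gl' {w : Equiv.Perm (ι → F)} (hw : Semi F w 1) : ∃ W : Matrix.GeneralLinearGroup ι F, gpm W = w := by
  let e : (ι → F) ≃ₗ[F] (ι → F) := { w with map_add' := hw.1, map_smul' := hw.2 }
  obtain ⟨W, hW⟩ := exists_gl e
  exact ⟨W, by rw [hW]; rfl⟩

theorem phi_gpm (θ : F ≃+* F) (g : Matrix.GeneralLinearGroup ι F) :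
    phi ι θ * gpm g = gpm (Matrix.GeneralLinearGroup.map (θ : F →+* F) g) * phi ι θ := by
  ext v i
  rw [Equiv.Perm.mul_apply, Equiv.Perm.mul_apply, gpm_apply, phi_apply, gpm_apply, Matrix.mulVec, Matrix.mulVec,
    dotProduct, dotProduct, map_sum]
  refine Finset.sum_congr rfl fun j _ => ?_
  rw [map_mul, phi_apply]
  rfl

theorem det_conj_map (θ : F ≃+* F) (E W : Matrix.GeneralLinearGroup ι F) :
    ((E⁻¹ * Matrix.GeneralLinearGroup.map (θ : F →+* F) (E * W * E⁻¹) * E : Matrix.GeneralLinearGroup ι F) :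
      Matrix ι ι F).det = θ ((W : Matrix ι ι F).det) := by
  have h1 : Matrix.GeneralLinearGroup.det (Matrix.GeneralLinearGroup.map (θ : F →+* F) (E * W * E⁻¹)) =
      Units.map ((θ : F →+* F) : F →* F) (Matrix.GeneralLinearGroup.det (E * W * E⁻¹)) := by
    apply Units.ext
    exact ((θ : F →+* F).map_det (((E * W * E⁻¹ : Matrix.GeneralLinearGroup ι F)) : Matrix ι ι F)).symm
  have h2 : Matrix.GeneralLinearGroup.det
      (E⁻¹ * Matrix.GeneralLinearGroup.map (θ : F →+* F) (E * W * E⁻¹) * E) =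
      Units.map ((θ : F →+* F) : F →* F) (Matrix.GeneralLinearGroup.det W) := by
    have h3 : Matrix.GeneralLinearGroup.det (E * W * E⁻¹) = Matrix.GeneralLinearGroup.det W := by
      rw [map_mul, map_mul, map_inv, mul_comm (Matrix.GeneralLinearGroup.det E) (Matrix.GeneralLinearGroup.det W),
        mul_inv_cancel_right]
    rw [map_mul, map_mul, map_inv, h1, h3, mul_comm (Matrix.GeneralLinearGroup.det E)⁻¹, inv_mul_cancel_right]
  exact congrArg Units.val h2

end gl

section mem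

variable {F : Type*} [Field F] [Fintype F]

/-- The group of a frame which contains a semilinear map with companion of odd order contains every semilinear
isometry with this companion which is conjugate to the standard one. -/
theorem phi_mem_o (ho : Odd (Fintype.card F)) {M : Type*} [Group M] {a b : F} (hab : Cfsg.Agent.H214.S69.Aniso a b)
    (fr : OFrame F (quadFormMinus 3 F a b) M) (y : ↥fr.H) {θ : F ≃+* F} (hy : Semi F y.1 θ)
    (hθ : Odd (orderOf θ)) (E : Matrix.GeneralLinearGroup ((Fin 3 ⊕ Fin 3) ⊕ Fin 2) F)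
    (φ : Equiv.Perm ((Fin 3 ⊕ Fin 3) ⊕ Fin 2 → F)) (hφ : φ = (gpm E)⁻¹ * phi _ θ * gpm E)
    (hQφ : ∀ v, quadFormMinus 3 F a b (φ v) = θ (quadFormMinus 3 F a b v)) : φ ∈ fr.H := by
  obtain ⟨θ', τ, hτ0, hy', hτ⟩ := fr.semi y.1 y.2
  obtain rfl := semi_unique hy hy'
  have hφs : Semi F φ θ := by
    have h1 := semi_mul (semi_mul (semi_inv (gpm_semi E)) (phi_semi (ι := (Fin 3 ⊕ Fin 3) ⊕ Fin 2) θ)) (gpm_semi E)
    rw [← hφ] at h1
    exact h1
  have hφt : φ ^ orderOf θ = 1 := by
    have h1 : φ = (gpm E)⁻¹ * phi _ θ * (gpm E)⁻¹⁻¹ := by rw [inv_inv, hφ]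
    rw [h1, conj_pow, phi_pow, pow_orderOf_eq_one]
    have h2 : phi ((Fin 3 ⊕ Fin 3) ⊕ Fin 2) (1 : F ≃+* F) = 1 := rfl
    rw [h2, mul_one, mul_inv_cancel]
  have hQi : ∀ v, θ (quadFormMinus 3 F a b (φ⁻¹ v)) = quadFormMinus 3 F a b v := fun v => by
    rw [← hQφ, perm_apply_inv]
  obtain ⟨μ, hμ0, hμ⟩ : ∃ μ : F, μ ≠ 0 ∧ τ * θ τ = μ ^ 2 := by
    by_cases hsq : IsSquare τ
    · obtain ⟨d, hd⟩ := hsq
      refine ⟨d * θ d, mul_ne_zero ?_ ?_, ?_⟩
      · rintro rfl; exact hτ0 (by rw [hd, mul_zero])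
      · intro h0
        rw [map_eq_zero] at h0
        exact hτ0 (by rw [hd, h0, mul_zero])
      · rw [hd, map_mul]; ring
    · have hsq' : ¬ IsSquare (θ τ) := by
        rintro ⟨d, hd⟩
        apply hsq
        refine ⟨θ.symm d, θ.injective ?_⟩
        rw [hd, map_mul, θ.apply_symm_apply]
      obtain ⟨ν, hν0, hν⟩ := exists_sq_mul ho hsq' hsq
      refine ⟨ν * τ, mul_ne_zero hν0 hτ0, ?_⟩
      rw [hν]; ring
  -- the linear part
  obtain ⟨W, hW⟩ := exists_gl' (F := F) (w := y.1 * φ⁻¹) (by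
    have h1 := semi_mul hy (semi_inv hφs)
    rwa [mul_inv_cancel] at h1)
  have hQW : ∀ v, quadFormMinus 3 F a b (W.val.mulVec v) = τ * quadFormMinus 3 F a b v := fun v => by
    rw [← gpm_apply, hW, Equiv.Perm.mul_apply, hτ, hQi]
  let W2 : Matrix.GeneralLinearGroup ((Fin 3 ⊕ Fin 3) ⊕ Fin 2) F :=
    E⁻¹ * Matrix.GeneralLinearGroup.map (θ : F →+* F) (E * W * E⁻¹) * E
  have hW2 : gpm W2 = φ * gpm W * φ⁻¹ := by
    have h1 := phi_gpm θ (E * W * E⁻¹)
    rw [eq_mul_inv_iff_mul_eq]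
    show gpm (E⁻¹ * _ * E) * φ = _
    rw [map_mul, map_mul, map_inv, hφ]
    calc (gpm E)⁻¹ * gpm (Matrix.GeneralLinearGroup.map (θ : F →+* F) (E * W * E⁻¹)) * gpm E *
          ((gpm E)⁻¹ * phi _ θ * gpm E) =
        (gpm E)⁻¹ * (gpm (Matrix.GeneralLinearGroup.map (θ : F →+* F) (E * W * E⁻¹)) * phi _ θ) * gpm E := by group
      _ = (gpm E)⁻¹ * (phi _ θ * gpm (E * W * E⁻¹)) * gpm E := by rw [h1]
      _ = (gpm E)⁻¹ * phi _ θ * gpm E * gpm W := by rw [map_mul, map_mul, map_inv]; group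
  have hQW2 : ∀ v, quadFormMinus 3 F a b (W2.val.mulVec v) = θ τ * quadFormMinus 3 F a b v := fun v => by
    rw [← gpm_apply, hW2, Equiv.Perm.mul_apply, Equiv.Perm.mul_apply, hQφ, gpm_apply, hQW, map_mul, hQi]
  have hdW2 : W2.val.det = θ (W.val.det) := det_conj_map θ E W
  have hdW : W.val.det ^ 2 = τ ^ 8 := by
    have h1 := det_sq_of_sim (nondeg_minusForm 3 F a b hab) W.val τ (fun v => by
      rw [coe_minusForm]; exact hQW v)
    rw [h1]
    congr 1
  have hdd : W.val.det * θ (W.val.det) = μ ^ 8 := by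
    have h1 : (W.val.det - τ ^ 4) * (W.val.det + τ ^ 4) = 0 := by linear_combination hdW
    have h2 : μ ^ 8 = τ ^ 4 * θ τ ^ 4 := by
      have : μ ^ 8 = (μ ^ 2) ^ 4 := by ring
      rw [this, ← hμ]; ring
    rcases mul_eq_zero.1 h1 with h3 | h3
    · rw [sub_eq_zero.1 h3, map_pow, h2]
    · rw [eq_neg_of_add_eq_zero_left h3, map_neg, map_pow, h2]
      ring
  have hQs : ∀ (d : F) v, quadFormMinus 3 F a b (d • v) = d ^ 2 * quadFormMinus 3 F a b v := fun d v => by
    rw [← coe_minusForm, QuadraticMap.map_smul, smul_eq_mul, pow_two]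
  have h1 : scal F _ (Units.mk0 μ hμ0)⁻¹ * (gpm W * gpm W2) ∈ fr.H := by
    refine OFrame.so_mem ho hab fr (μ⁻¹ • (W.val * W2.val)) ?_ ?_ _ ?_
    · rw [Matrix.det_smul, Matrix.det_mul, hdW2, hdd]
      have h2 : Fintype.card ((Fin 3 ⊕ Fin 3) ⊕ Fin 2) = 8 := by simp
      rw [h2]
      field_simp
    · intro v
      rw [Matrix.smul_mulVec, ← Matrix.mulVec_mulVec, hQs, hQW, hQW2, ← mul_assoc τ, hμ]
      field_simp
    · intro v
      rw [Equiv.Perm.mul_apply, Equiv.Perm.mul_apply, scal_apply, Matrix.smul_mulVec, ← Matrix.mulVec_mulVec,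
        Units.val_inv_eq_inv_val, Units.val_mk0]
      rfl
  have hφ2 : φ ^ 2 ∈ fr.H := by
    have h6 := fr.H.mul_mem (fr.H.inv_mem h1) (fr.H.mul_mem (fr.scal_mem (Units.mk0 μ hμ0)⁻¹) (fr.H.pow_mem y.2 2))
    have h7 : (scal F ((Fin 3 ⊕ Fin 3) ⊕ Fin 2 → F) (Units.mk0 μ hμ0)⁻¹ * (gpm W * gpm W2))⁻¹ *
        (scal F _ (Units.mk0 μ hμ0)⁻¹ * y.1 ^ 2) = φ ^ 2 := by
      rw [hW2, hW]
      group
    rwa [h7] at h6
  obtain ⟨k, hk⟩ := hθ
  have h8 := fr.H.pow_mem hφ2 (k + 1)
  have h9 : (φ ^ 2) ^ (k + 1) = φ := by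
    rw [← pow_mul, show 2 * (k + 1) = (2 * k + 1) + 1 by ring, pow_succ, ← hk, hφt, one_mul]
  rwa [h9] at h8

end mem

section card

variable {K : Type*} [Field K] [Fintype K]

theorem card_omega (ho : Odd (Fintype.card K)) {a b : K} (hab : Cfsg.Agent.H214.S69.Aniso a b) :
    Nat.card (Omega K (quadFormMinus 3 K a b)) * 4 = 2 * Fintype.card K ^ (4 * 3) * (Fintype.card K ^ 4 + 1) *
      ∏ i ∈ Finset.range 3, (Fintype.card K ^ (2 * (i + 1)) - 1) := by
  have h2 := two_ne_zero_of_odd ho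
  have hQ : (QuadraticMap.polarBilin (minusForm 3 K a b)).Nondegenerate :=
    H377.nondegenerate_of_nondeg (nondeg_minusForm 3 K a b hab)
  have h1 := ClassicalGeometry.OmegaIndex.index_Omega h2 (by simp) (minusForm 3 K a b) hQ
  rw [coe_minusForm] at h1
  have h3 := (Omega K (quadFormMinus 3 K a b)).card_mul_index
  rw [h1] at h3
  rw [h3]
  exact S0288.result rfl 4 (by norm_num) a b hab

theorem two_dvd_card_omega (ho : Odd (Fintype.card K)) {a b : K} (hab : Cfsg.Agent.H214.S69.Aniso a b) :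
    2 ∣ Nat.card (Omega K (quadFormMinus 3 K a b)) := by
  have h1 := card_omega ho hab
  have h2 : Even (Fintype.card K ^ 4 + 1) := (ho.pow).add_one
  have h3 : 2 ∣ ∏ i ∈ Finset.range 3, (Fintype.card K ^ (2 * (i + 1)) - 1) :=
    (Nat.Odd.sub_odd ho.pow odd_one).two_dvd.trans (Finset.dvd_prod_of_mem _ (Finset.mem_range.2 (show 0 < 3 by norm_num)))
  obtain ⟨x, hx⟩ := h2.two_dvd
  obtain ⟨z, hz⟩ := h3
  rw [hx, hz] at h1
  have h4 : 2 * Fintype.card K ^ (4 * 3) * (2 * x) * (2 * z) = (2 * (Fintype.card K ^ (4 * 3) * x * z)) * 4 := by ring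
  rw [h4] at h1
  exact ⟨_, Nat.eq_of_mul_eq_mul_right (by norm_num) h1⟩

theorem dvd_card_omega (ho : Odd (Fintype.card K)) {a b : K} (hab : Cfsg.Agent.H214.S69.Aniso a b) {r : ℕ}
    (hr : r.Prime) (hr2 : r ≠ 2) (h : r ∣ Fintype.card K ^ 4 + 1) : r ∣ Nat.card (Omega K (quadFormMinus 3 K a b)) := by
  have h1 : r ∣ Nat.card (Omega K (quadFormMinus 3 K a b)) * 4 := by
    rw [card_omega ho hab]
    exact (h.mul_left _).mul_right _
  refine (hr.dvd_mul.1 h1).resolve_right fun h3 => ?_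
  exact hr2 ((Nat.prime_dvd_prime_iff_eq hr Nat.prime_two).1 (hr.dvd_of_dvd_pow (show r ∣ 2 ^ 2 from h3)))

end card

/-- **T5a, field automorphisms of odd prime order, orthogonal case.** -/
theorem o_odd {F : Type} [Field F] [Fintype F] [CharP F 7] {M : Type u} [Group M] [Finite M]
    (hs : Up8 (Fintype.card F) M) {a b : F} (hab : Cfsg.Agent.H214.S69.Aniso a b)
    (fr : OFrame F (quadFormMinus 3 F a b) M) (y : ↥fr.H) {θ : F ≃+* F} (hy : Semi F y.1 θ) {t : ℕ} (ht : t.Prime)
    (ht2 : t ≠ 2) : orderOf θ ≠ t := by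
  classical
  intro hθ
  have hto : Odd t := ht.odd_of_ne_two ht2
  have ho : Odd (Fintype.card F) := up8_odd hs
  obtain ⟨K, hK, hKc⟩ := card_fix θ
  rw [hθ, Nat.card_eq_fintype_card (α := F)] at hKc
  letI : Fintype K := Fintype.ofFinite K
  have hKo : Odd (Nat.card K) := by
    rcases Nat.even_or_odd (Nat.card K) with h | h
    · rw [← hKc] at ho
      exact absurd ho (by rw [Nat.not_odd_iff_even]; exact h.pow_of_ne_zero ht.ne_zero)
    · exact h
  have hK3 : 3 ≤ Nat.card K := by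
    have h2 : 1 < Nat.card K := Finite.one_lt_card
    obtain ⟨k, hk⟩ := hKo
    omega
  have hKo' : Odd (Fintype.card K) := by rwa [← Nat.card_eq_fintype_card]
  have h2F := two_ne_zero_of_odd ho
  obtain ⟨r, hr, hrm⟩ := H202.T.exists_prime_mm hK3
  haveI : Fact r.Prime := ⟨hr⟩
  have hrm' := prime_mm hKc hto ho hKo hr hrm
  have hr2 := H202.T.ne_two_of_dvd hKo hrm
  -- a nonsquare
  obtain ⟨d', hd'⟩ : ∃ d' : K, ¬ IsSquare d' := by
    apply FiniteField.exists_nonsquare
    intro h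
    have := FiniteField.even_card_of_char_two h
    rw [Nat.odd_iff] at hKo'
    omega
  have hθd : θ (d' : F) = d' := (hK _).1 d'.2
  have hθt : ∀ x : F, (θ ^ t) x = x := fun x => by rw [← hθ, pow_orderOf_eq_one]; rfl
  have hd : ¬ IsSquare (d' : F) := by
    rintro ⟨x, hx⟩
    have h1 : θ x = x ∨ θ x = -x := by
      apply sq_eq_sq_iff_eq_or_eq_neg.1
      rw [pow_two, pow_two, ← map_mul, ← hx, hθd]
    rcases h1 with h1 | h1
    · exact hd' ⟨⟨x, (hK x).2 h1⟩, Subtype.ext hx⟩
    · have h3 : ∀ n : ℕ, (θ ^ n) x = (-1) ^ n * x := by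
        intro n
        induction n with
        | zero => rw [pow_zero, pow_zero, one_mul]; rfl
        | succ n ih =>
          rw [pow_succ']
          show θ ((θ ^ n) x) = _
          rw [ih, map_mul, map_pow, map_neg, map_one, h1]
          ring
      have h4 := h3 t
      rw [hθt, hto.neg_one_pow] at h4
      have h5 : (2 : F) * x = 0 := by linear_combination h4
      have h6 : x = 0 := (mul_eq_zero.1 h5).resolve_left h2F
      rw [h6, mul_zero] at hx
      exact hd' ⟨0, by rw [mul_zero]; exact Subtype.ext hx⟩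
  have aniso : ∀ {L : Type} [Field L] {d : L}, ¬ IsSquare d → Cfsg.Agent.H214.S69.Aniso (0 : L) (-d) := by
    intro L _ d hd z w h
    have h1 : z ^ 2 = d * w ^ 2 := by linear_combination h
    by_cases hw : w = 0
    · rw [hw] at h1
      exact ⟨by simpa using h1, hw⟩
    · exact absurd ⟨z / w, by field_simp; linear_combination -h1⟩ hd
  have habK := aniso hd'
  have habF := aniso hd
  obtain ⟨e, he⟩ := H193.QuadEmb.minus_iso 3 (F := F) (a := a) (b := b) (a' := 0) (b' := -(d' : F)) hab habF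
    (c := 1) one_ne_zero
  obtain ⟨E, hE⟩ := exists_gl e
  have hE1 : ∀ v, quadFormMinus 3 F 0 (-(d' : F)) (gpm E v) = quadFormMinus 3 F a b v := fun v => by
    rw [hE]
    exact (he v).trans (one_mul _)
  have hE2 : ∀ v, quadFormMinus 3 F a b ((gpm E)⁻¹ v) = quadFormMinus 3 F 0 (-(d' : F)) v := fun v => by
    rw [← hE1, perm_apply_inv]
  obtain ⟨φ, hφ⟩ : ∃ φ, φ = (gpm E)⁻¹ * phi _ θ * gpm E := ⟨_, rfl⟩
  have hQφ : ∀ v, quadFormMinus 3 F a b (φ v) = θ (quadFormMinus 3 F a b v) := fun v => by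
    rw [hφ, Equiv.Perm.mul_apply, Equiv.Perm.mul_apply, hE2, ← hE1 v]
    simp only [quadFormMinus, map_add, map_sum, map_mul, map_pow, phi_apply, map_zero, map_neg, hθd]
  have hφH := phi_mem_o ho hab fr y hy (by rwa [hθ]) E φ hφ hQφ
  have hφs : Semi F φ θ := by
    have h1 := semi_mul (semi_mul (semi_inv (gpm_semi E)) (phi_semi (ι := (Fin 3 ⊕ Fin 3) ⊕ Fin 2) θ)) (gpm_semi E)
    rw [← hφ] at h1
    exact h1
  have hφt : φ ^ t = 1 := by
    have h1 : φ = (gpm E)⁻¹ * phi _ θ * (gpm E)⁻¹⁻¹ := by rw [inv_inv, hφ]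
    rw [h1, conj_pow, phi_pow, ← hθ, pow_orderOf_eq_one]
    have h2 : phi ((Fin 3 ⊕ Fin 3) ⊕ Fin 2) (1 : F ≃+* F) = 1 := rfl
    rw [h2, mul_one, mul_inv_cancel]
  -- the isometries over `K`
  have hiso : ∀ g : isometryGroup K (quadFormMinus 3 K 0 (-d')), ∀ v, quadFormMinus 3 F 0 (-(d' : F))
      ((g.1.val.map K.subtype).mulVec v) = quadFormMinus 3 F 0 (-(d' : F)) v := by
    intro g v
    have h1 := ext_iso K.subtype (Q₀ := minusForm 3 K 0 (-d')) (Q := minusForm 3 F 0 (-(d' : F))) (fun v => by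
      rw [coe_minusForm, coe_minusForm]
      simp only [quadFormMinus, map_add, map_sum, map_mul, map_pow, map_zero, map_neg]
      rfl) (A := g.1.val) (fun v => by
        rw [coe_minusForm]
        exact g.2 v v) v
    rwa [coe_minusForm] at h1
  let ρ : isometryGroup K (quadFormMinus 3 K 0 (-d')) →* isometryGroup F (quadFormMinus 3 F a b) :=
    { toFun := fun g => ⟨E⁻¹ * Matrix.GeneralLinearGroup.map K.subtype g.1 * E, fun v _ => by
        show quadFormMinus 3 F a b (gpm (E⁻¹ * Matrix.GeneralLinearGroup.map K.subtype g.1 * E) v) = _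
        rw [map_mul, map_mul, map_inv, Equiv.Perm.mul_apply, Equiv.Perm.mul_apply, hE2, gpm_apply]
        have h1 := hiso g (gpm E v)
        rw [hE1] at h1
        exact h1⟩
      map_one' := by
        apply Subtype.ext
        show E⁻¹ * Matrix.GeneralLinearGroup.map K.subtype 1 * E = 1
        rw [map_one, mul_one, inv_mul_cancel]
      map_mul' := fun g h => by
        apply Subtype.ext
        show E⁻¹ * Matrix.GeneralLinearGroup.map K.subtype (g.1 * h.1) * E =
          (E⁻¹ * Matrix.GeneralLinearGroup.map K.subtype g.1 * E) *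
            (E⁻¹ * Matrix.GeneralLinearGroup.map K.subtype h.1 * E)
        rw [map_mul]
        group }
  have hρΩ : ∀ s ∈ Omega K (quadFormMinus 3 K 0 (-d')), ρ s ∈ Omega F (quadFormMinus 3 F a b) := by
    intro s hs
    have h1 : (commutator (isometryGroup K (quadFormMinus 3 K 0 (-d')))).map ρ ≤
        commutator (isometryGroup F (quadFormMinus 3 F a b)) := by
      rw [commutator_def, Subgroup.map_commutator, commutator_def]
      exact Subgroup.commutator_mono le_top le_top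
    exact h1 (Subgroup.mem_map_of_mem ρ hs)
  have hgρ : ∀ s, gpm (ρ s).1 = (gpm E)⁻¹ * gpm (Matrix.GeneralLinearGroup.map K.subtype s.1) * gpm E := fun s => by
    show gpm (E⁻¹ * Matrix.GeneralLinearGroup.map K.subtype s.1 * E) = _
    rw [map_mul, map_mul, map_inv]
  have hcomm : ∀ s, gpm (ρ s).1 * φ = φ * gpm (ρ s).1 := by
    intro s
    have h1 := gpm_phi (Matrix.GeneralLinearGroup.map K.subtype s.1) θ (fun i j => (hK _).1 (s.1.val i j).2)
    rw [hgρ, hφ]
    calc (gpm E)⁻¹ * gpm (Matrix.GeneralLinearGroup.map K.subtype s.1) * gpm E * ((gpm E)⁻¹ * phi _ θ * gpm E) =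
        (gpm E)⁻¹ * (gpm (Matrix.GeneralLinearGroup.map K.subtype s.1) * phi _ θ) * gpm E := by group
      _ = (gpm E)⁻¹ * (phi _ θ * gpm (Matrix.GeneralLinearGroup.map K.subtype s.1)) * gpm E := by rw [h1]
      _ = _ := by group
  have hmem : ∀ s ∈ Omega K (quadFormMinus 3 K 0 (-d')), gpm (ρ s).1 ∈ fr.H := fun s hs =>
    fr.omega _ ⟨⟨ρ s, hρΩ s hs⟩, fun v => rfl⟩
  have hscal : ∀ s ∈ Omega K (quadFormMinus 3 K 0 (-d')), (∃ c : Fˣ, gpm (ρ s).1 = scal F _ c) → s = 1 := by
    rintro s hsΩ ⟨c, hc⟩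
    have h1 : gpm (Matrix.GeneralLinearGroup.map K.subtype s.1) = scal F _ c := by
      have h2 : gpm (Matrix.GeneralLinearGroup.map K.subtype s.1) = gpm E * gpm (ρ s).1 * (gpm E)⁻¹ := by
        rw [hgρ]; group
      rw [h2, hc, mul_inv_eq_iff_eq_mul]
      ext v : 1
      exact (gpm_semi E).2 _ _
    have h2 : ∀ v, (s.1.val.map K.subtype).mulVec v = (c : F) • v := fun v => DFunLike.congr_fun h1 v
    have hc1 : (c : F) = 1 ∨ (c : F) = -1 := by
      have h3 := hiso s (Pi.single (Sum.inr 0) 1)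
      rw [h2] at h3
      have h4 : quadFormMinus 3 F 0 (-(d' : F)) ((c : F) • (Pi.single (Sum.inr 0) 1 : (Fin 3 ⊕ Fin 3) ⊕ Fin 2 → F)) =
          (c : F) ^ 2 := by
        simp [quadFormMinus]
      have h5 : quadFormMinus 3 F 0 (-(d' : F)) (Pi.single (Sum.inr 0) 1 : (Fin 3 ⊕ Fin 3) ⊕ Fin 2 → F) = 1 := by
        simp [quadFormMinus]
      rw [h4, h5] at h3
      have h6 : (c : F) ^ 2 = 1 ^ 2 := by rw [h3, one_pow]
      exact sq_eq_sq_iff_eq_or_eq_neg.1 h6
    have h3 : s.1.val.map K.subtype = (c : F) • (1 : Matrix _ _ F) := by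
      apply Matrix.toLin'.injective
      refine LinearMap.ext fun v => ?_
      rw [Matrix.toLin'_apply, Matrix.toLin'_apply, h2, Matrix.smul_mulVec, Matrix.one_mulVec]
    rcases hc1 with hc1 | hc1
    · apply Subtype.ext
      apply Units.ext
      apply Matrix.map_injective K.subtype.injective
      show s.1.val.map K.subtype = (1 : Matrix _ _ K).map K.subtype
      rw [h3, hc1, one_smul]
      simp
    · exfalso
      have h4 : s.1.val = -1 := by
        apply Matrix.map_injective K.subtype.injective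
        show s.1.val.map K.subtype = (-1 : Matrix _ _ K).map K.subtype
        rw [h3, hc1]
        ext i j
        simp only [Matrix.map_apply, Matrix.smul_apply, Matrix.neg_apply, Matrix.one_apply, map_neg]
        split_ifs <;> simp
      have h5 := (S0791.result (F := K) rfl hKo' 4 (by norm_num) 0 (-d') habK).1 ⟨s, hsΩ, h4⟩
      obtain ⟨k, hk⟩ := hKo'
      rw [hk] at h5
      have : (2 * k + 1) ^ 4 = 4 * (4 * k ^ 4 + 8 * k ^ 3 + 6 * k ^ 2 + 2 * k) + 1 := by ring
      omega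
  haveI : Finite (isometryGroup K (quadFormMinus 3 K 0 (-d'))) := inferInstance
  obtain ⟨x, hx⟩ : ∃ x : Omega K (quadFormMinus 3 K 0 (-d')), orderOf x = r := by
    apply exists_prime_orderOf_dvd_card'
    apply dvd_card_omega hKo' habK hr hr2
    rw [← Nat.card_eq_fintype_card, ← H202.T.two_mm hKo]
    exact hrm.mul_left 2
  obtain ⟨s, hs2⟩ : ∃ s : Omega K (quadFormMinus 3 K 0 (-d')), orderOf s = 2 := by
    haveI : Fact (Nat.Prime 2) := ⟨Nat.prime_two⟩
    apply exists_prime_orderOf_dvd_card'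
    exact two_dvd_card_omega hKo' habK
  have pw : ∀ (x : Omega K (quadFormMinus 3 K 0 (-d'))) (n : ℕ), orderOf x = n → gpm (ρ x.1).1 ^ n = 1 := by
    intro x n hn
    have h1 : (ρ x.1).1 ^ n = 1 := by
      have h2 : (ρ x.1) ^ n = 1 := by
        rw [← map_pow, ← Subgroup.coe_pow, ← hn, pow_orderOf_eq_one, Subgroup.coe_one, map_one]
      exact congrArg Subtype.val h2
    rw [← map_pow, h1, map_one]
  refine false_of_comm hs fr.Φ fr.ker hφH hφs ht ht2 hθ hφt (hmem x.1 x.2) hr hrm' ⟨1, ?_⟩ ?_ (hcomm x.1)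
    (hmem s.1 s.2) ⟨1, ?_⟩ ?_ (hcomm s.1)
  · rw [map_one]; exact pw x r hx
  · intro h
    have h1 := hscal x.1 x.2 h
    have h2 : x = 1 := Subtype.ext h1
    rw [h2, orderOf_one] at hx
    exact hr.one_lt.ne hx
  · rw [map_one]; exact pw s 2 hs2
  · intro h
    have h1 := hscal s.1 s.2 h
    have h2 : s = 1 := Subtype.ext h1
    rw [h2, orderOf_one] at hs2
    norm_num at hs2

end Cfsg.Agent.H811.S69
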