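import Cfsg.Agent.H214.S69.Defs
import Cfsg.Agent.H377.Sign
import Cfsg.Agent.ClassicalGeometry.OmegaIndex
import Cfsg.Agent.S0791

/-!
# `SO₈⁻(q) = {±1} × Ω₈⁻(q)` for odd `q` (helper811, S3469)

* `omega_or_neg` : an isometry of determinant 1 of a nondegenerate form in even dimension lies in `Ω` up to sign if
  `-1` does not lie in `Ω`;
* `omega_or_neg_eight` : the case of `quadFormMinus 3 F a b`.
-/

set_option autoImplicit false

namespace Cfsg.Agent.H811.S69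

open Cfsg Cfsg.Agent Cfsg.Agent.H903.SylSemi Cfsg.Agent.H214.S69
open Cfsg.Agent.ClassicalGeometry.OmegaIndex Cfsg.Agent.ClassicalGeometry.SpinorSign
open Cfsg.Agent.LieClassical.OrthCore Cfsg.Agent.LieClassical.OrthForms

section

variable {F : Type*} [Field F] [Fintype F] {ι : Type} [Fintype ι] [DecidableEq ι]

/-- the matrix of an element of `Ω` -/
abbrev omat {Q : (ι → F) → F} (s : ↥(Omega F Q)) : Matrix ι ι F :=
  ((s : ↥(isometryGroup F Q)) : Matrix.GeneralLinearGroup ι F).val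

theorem omega_or_neg (h2 : (2 : F) ≠ 0) (Q : QuadraticForm F (ι → F))
    (hQ : (QuadraticMap.polarBilin Q).Nondegenerate) (hn : 2 ≤ Fintype.card ι) (he : Even (Fintype.card ι))
    (hneg : ¬ ∃ g : ↥(isometryGroup F ⇑Q), g ∈ Omega F ⇑Q ∧ ((g : Matrix.GeneralLinearGroup ι F) : Matrix ι ι F) = -1)
    (A : Matrix ι ι F) (hd : A.det = 1) (hA : ∀ v, Q (A.mulVec v) = Q v) :
    (∃ s : ↥(Omega F ⇑Q), omat s = A) ∨ (∃ s : ↥(Omega F ⇑Q), omat s = -A) := by
  classical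
  have hu : IsUnit A.det := by rw [hd]; exact isUnit_one
  let g : Matrix.GeneralLinearGroup ι F := A.nonsingInvUnit hu
  have hg : (g : Matrix ι ι F) = A := rfl
  let x : ↥(isometryGroup F ⇑Q) := ⟨g, fun v _ => hA v⟩
  have hm : (-1 : Matrix ι ι F).det = 1 := by
    rw [Matrix.det_neg, Matrix.det_one, he.neg_one_pow, one_mul]
  let m : ↥(isometryGroup F ⇑Q) := ⟨-1, fun v _ => by
    show Q ((-1 : Matrix ι ι F).mulVec v) = Q v
    rw [Matrix.neg_mulVec, Matrix.one_mulVec, QuadraticMap.map_neg]⟩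
  have hmv : ((m : Matrix.GeneralLinearGroup ι F) : Matrix ι ι F) = -1 := rfl
  have key := fun y : ↥(isometryGroup F ⇑Q) => mem_Omega_iff h2 Q hQ hn (one_ne_zero : (1 : F) ≠ 0) y
  have hms : spinorSign (⇑Q) (1 : F) m ≠ 1 := by
    intro h
    exact hneg ⟨m, (key m).2 ⟨hm, h⟩, hmv⟩
  rcases Int.units_eq_one_or (spinorSign (⇑Q) (1 : F) x) with h | h
  · exact Or.inl ⟨⟨x, (key x).2 ⟨hd, h⟩⟩, rfl⟩
  · right
    refine ⟨⟨m * x, (key _).2 ⟨?_, ?_⟩⟩, ?_⟩
    · show ((-1 : Matrix ι ι F) * A).det = 1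
      rw [Matrix.det_mul, hm, hd, one_mul]
    · rw [map_mul, h, (Int.units_eq_one_or _).resolve_left hms]
      norm_num
    · show ((-1 : Matrix ι ι F) * A) = -A
      rw [neg_one_mul]

end

section

variable {F : Type*} [Field F] [Fintype F]

theorem two_ne_zero_of_odd (ho : Odd (Fintype.card F)) : (2 : F) ≠ 0 := by
  have hchar : ringChar F ≠ 2 := by
    intro h
    have := FiniteField.even_card_of_char_two h
    rw [Nat.odd_iff] at ho
    omega
  exact Ring.two_ne_zero hchar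

/-- `SO₈⁻(q) = {±1} Ω₈⁻(q)`. -/
theorem omega_or_neg_eight (ho : Odd (Fintype.card F)) {a b : F} (hab : Aniso a b)
    (A : Matrix ((Fin 3 ⊕ Fin 3) ⊕ Fin 2) ((Fin 3 ⊕ Fin 3) ⊕ Fin 2) F) (hd : A.det = 1)
    (hA : ∀ v, quadFormMinus 3 F a b (A.mulVec v) = quadFormMinus 3 F a b v) :
    (∃ s : ↥(Omega F (quadFormMinus 3 F a b)), omat s = A) ∨
      (∃ s : ↥(Omega F (quadFormMinus 3 F a b)), omat s = -A) := by
  classical
  have h2 := two_ne_zero_of_odd ho
  have hneg := (S0791.result (F := F) rfl ho 4 (by norm_num) a b hab).not.2 (by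
    obtain ⟨k, hk⟩ := ho
    rw [hk]
    have : (2 * k + 1) ^ 4 = 4 * (4 * k ^ 4 + 8 * k ^ 3 + 6 * k ^ 2 + 2 * k) + 1 := by ring
    omega)
  have hQ : (QuadraticMap.polarBilin (minusForm 3 F a b)).Nondegenerate :=
    H377.nondegenerate_of_nondeg (nondeg_minusForm 3 F a b hab)
  have hc : Fintype.card ((Fin 3 ⊕ Fin 3) ⊕ Fin 2) = 8 := by simp
  rw [← coe_minusForm] at hneg hA ⊢
  exact omega_or_neg h2 _ hQ (by rw [hc]; norm_num) (by rw [hc]; decide) hneg A hd hA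

/-- The group `H` of a frame contains all isometries of determinant one. -/
theorem OFrame.so_mem {M : Type*} [Group M] (ho : Odd (Fintype.card F)) {a b : F} (hab : Aniso a b)
    (fr : OFrame F (quadFormMinus 3 F a b) M) (A : Matrix ((Fin 3 ⊕ Fin 3) ⊕ Fin 2) ((Fin 3 ⊕ Fin 3) ⊕ Fin 2) F)
    (hd : A.det = 1) (hA : ∀ v, quadFormMinus 3 F a b (A.mulVec v) = quadFormMinus 3 F a b v)
    (y : Equiv.Perm ((Fin 3 ⊕ Fin 3) ⊕ Fin 2 → F)) (hy : ∀ v, y v = A.mulVec v) : y ∈ fr.H := by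
  rcases omega_or_neg_eight ho hab A hd hA with ⟨s, hs⟩ | ⟨s, hs⟩
  · exact fr.omega _ ⟨s, fun v => by rw [hy, ← hs]⟩
  · have h1 : scal F _ (-1 : Fˣ) * y ∈ fr.H := by
      refine fr.omega _ ⟨s, fun v => ?_⟩
      rw [Equiv.Perm.mul_apply, scal_apply, hy]
      show _ = (omat s).mulVec v
      rw [hs, Matrix.neg_mulVec, Units.val_neg, Units.val_one, neg_one_smul]
    have h2 := fr.H.mul_mem (fr.H.inv_mem (fr.scal_mem (-1 : Fˣ))) h1
    rwa [inv_mul_cancel_left] at h2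

end

end Cfsg.Agent.H811.S69
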