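import Cfsg.Agent.H811.S69.SpLin
import Cfsg.Agent.H811.S69.So8
import Cfsg.Agent.H377.Types

/-!
# S3469, T5a: proper similitudes of nonsquare multiplier, orthogonal case (helper811)

* `o_delta`.
-/

set_option autoImplicit false
set_option linter.style.haveILetI false
set_option linter.unusedVariables false

universe u v

namespace Cfsg.Agent.H811.S69

open Cfsg Cfsg.Agent Cfsg.Agent.H903.SylSemi Cfsg.Agent.H214.S69
open Cfsg.Agent.H403.Classify Cfsg.Agent.LieClassical.OrthCore Cfsg.Agent.LieClassical.OrthForms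

/-- **T5a, proper similitudes, orthogonal case.** -/
theorem o_delta {F : Type} [Field F] [Fintype F] [CharP F 7] {M : Type u} [Group M] [Finite M]
    (hs : Up8 (Fintype.card F) M) {a b : F} (hab : Cfsg.Agent.H214.S69.Aniso a b)
    (fr : OFrame F (quadFormMinus 3 F a b) M)
    (A : Matrix ((Fin 3 ⊕ Fin 3) ⊕ Fin 2) ((Fin 3 ⊕ Fin 3) ⊕ Fin 2) F) {c : F} (hc : ¬ IsSquare c)
    (hd : A.det = c ^ 4) (hA : ∀ v, quadFormMinus 3 F a b (A.mulVec v) = c * quadFormMinus 3 F a b v)
    (y : ↥fr.H) (hy : ∀ v, y.1 v = A.mulVec v) : False := by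
  classical
  haveI : Fact (Nat.Prime 7) := ⟨by norm_num⟩
  haveI : NeZero 4 := ⟨by norm_num⟩
  set K := FiniteField.Extension F 7 4 with hK
  have hKc : Nat.card K = Nat.card F ^ 4 := FiniteField.natCard_extension F 7 4
  have hfr : Module.finrank F K = 4 := FiniteField.finrank_extension F 7 4
  haveI : Module.Finite F K := Module.Finite.of_finite
  have ho : Odd (Fintype.card F) := up8_odd hs
  have ho' : Odd (Nat.card F) := by rwa [Nat.card_eq_fintype_card]
  have hc0' : c ≠ 0 := by rintro rfl; exact hc ⟨0, by simp⟩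
  obtain ⟨a', b', hab'⟩ := exists_aniso_odd (K := K) (by rw [hKc]; exact ho'.pow)
  obtain ⟨T, c', hc', hbin, hdet, hT⟩ := exists_singer (F := F) (K := K) ho' hab'
  have hc0 : c' ≠ 0 := by rintro rfl; exact hc' ⟨0, by simp⟩
  have hdet0 : LinearMap.det T ≠ 0 := by
    rw [hdet]
    exact fun h => hc0 ((algebraMap F K).injective (by rw [h, map_zero]))
  let t : Equiv.Perm (Fin 2 → K) := (LinearMap.equivOfDetNeZero T hdet0).toEquiv
  have ht : ∀ z, t z = T z := fun z => rfl
  let QK := H377.binForm K a' b'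
  have hQK : ∀ z, QK z = bin a' b' z := fun z => H377.binForm_apply a' b' z
  let Q : QuadraticForm F (Fin 2 → K) := (Algebra.trace F K).compQuadraticMap' QK
  have hQ : ∀ v, Q v = Algebra.trace F K (bin a' b' v) := fun v => by rw [← hQK]; rfl
  have hQt : ∀ v, Q (t v) = c' * Q v := by
    intro v
    rw [hQ, hQ, ht, hbin, ← Algebra.smul_def, map_smul, smul_eq_mul]
  have hsign : H377.HasSign (⇑Q) 4 (-1) := by
    have h1 := (H377.hasSign_bin hab').res (F := F)
    rw [hfr, mul_one] at h1
    have h2 : ⇑Q = fun v => Algebra.trace F K (bin a' b' v) := funext hQ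
    rw [h2]
    exact h1
  have hnd : Nondeg Q := by
    intro x hx
    have hx' : ∀ y : Fin 2 → K, QuadraticMap.polar QK x y = 0 := by
      intro y
      have h1 : ∀ d : K, Algebra.trace F K (d * QuadraticMap.polar QK x y) = 0 := by
        intro d
        have h2 := hx (d • y)
        have h3 : QuadraticMap.polar QK x (d • y) = d * QuadraticMap.polar QK x y := by
          rw [QuadraticMap.polar_smul_right, smul_eq_mul]
        rw [← h3]
        have h4 : QuadraticMap.polar Q x (d • y) = Algebra.trace F K (QuadraticMap.polar QK x (d • y)) := by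
          simp only [QuadraticMap.polar, map_sub]
          rfl
        rw [← h4]
        exact h2
      by_contra hne
      obtain ⟨s, hs⟩ := Algebra.trace_surjective F K 1
      have h5 := h1 (s * (QuadraticMap.polar QK x y)⁻¹)
      rw [mul_assoc, inv_mul_cancel₀ hne, mul_one, hs] at h5
      exact one_ne_zero h5
    have hbn := H377.binForm_nondegenerate hab'
    by_contra hne
    apply hne
    exact hbn.1 x hx'
  obtain ⟨e, he⟩ := H377.exists_minus (m := 4) (by norm_num)
    (by rw [Module.finrank_pi_fintype]; simp [hfr]) Q hnd hsign (a := a) (b := b) hab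
  change ((Fin 3 ⊕ Fin 3) ⊕ Fin 2 → F) ≃ₗ[F] (Fin 2 → K) at e
  change ∀ u, Q (e u) = quadFormMinus 3 F a b u at he
  let y0 : Equiv.Perm ((Fin 3 ⊕ Fin 3) ⊕ Fin 2 → F) := (e.toEquiv.trans t).trans e.symm.toEquiv
  have hy0 : ∀ x, e (y0 x) = t (e x) := fun x => e.apply_symm_apply _
  let L0 : ((Fin 3 ⊕ Fin 3) ⊕ Fin 2 → F) →ₗ[F] ((Fin 3 ⊕ Fin 3) ⊕ Fin 2 → F) :=
    e.symm.toLinearMap ∘ₗ (T.restrictScalars F) ∘ₗ e.toLinearMap
  have hL0 : ∀ x, L0 x = y0 x := fun x => rfl
  let A0 := LinearMap.toMatrix' L0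
  have hA0 : ∀ x, A0.mulVec x = y0 x := fun x => by rw [← hL0]; exact LinearMap.toMatrix'_mulVec L0 x
  have hdA0 : A0.det = c' ^ 4 := by
    have h1 : LinearMap.det L0 = LinearMap.det (T.restrictScalars F) := by
      have := LinearMap.det_conj (T.restrictScalars F) e.symm
      exact this
    have h2 : A0.det = LinearMap.det L0 := LinearMap.det_toMatrix' L0
    rw [h2, h1, LinearMap.det_restrictScalars, hdet, Algebra.norm_algebraMap, hfr]
  have hQ0 : ∀ v, quadFormMinus 3 F a b (A0.mulVec v) = c' * quadFormMinus 3 F a b v := fun v => by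
    rw [hA0, ← he, ← he, hy0, hQt]
  have hu : IsUnit A.det := by rw [hd]; exact (pow_ne_zero 4 hc0').isUnit
  obtain ⟨μ, hμ0, hμ⟩ := exists_sq_mul ho hc' hc
  have hmem : y0 ∈ fr.H := by
    have hQi : ∀ v, quadFormMinus 3 F a b (A⁻¹.mulVec v) = c⁻¹ * quadFormMinus 3 F a b v := fun v => by
      have := hA (A⁻¹.mulVec v)
      rw [Matrix.mulVec_mulVec, Matrix.mul_nonsing_inv _ hu, Matrix.one_mulVec] at this
      rw [this]
      field_simp
    have hQs : ∀ (d : F) v, quadFormMinus 3 F a b (d • v) = d ^ 2 * quadFormMinus 3 F a b v := fun d v => by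
      rw [← coe_minusForm, QuadraticMap.map_smul, smul_eq_mul, pow_two]
    have h1 : scal F _ (Units.mk0 μ hμ0)⁻¹ * (y0 * (y : Equiv.Perm _)⁻¹) ∈ fr.H := by
      refine OFrame.so_mem ho hab fr (μ⁻¹ • (A0 * A⁻¹)) ?_ ?_ _ ?_
      · rw [Matrix.det_smul, Matrix.det_mul, Matrix.det_nonsing_inv, hdA0, hd, Ring.inverse_eq_inv', hμ]
        have h2 : Fintype.card ((Fin 3 ⊕ Fin 3) ⊕ Fin 2) = 8 := by simp
        rw [h2]
        field_simp
      · intro v
        rw [Matrix.smul_mulVec, ← Matrix.mulVec_mulVec, hQs, hQ0, hQi, hμ]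
        field_simp
      · intro v
        rw [Equiv.Perm.mul_apply, Equiv.Perm.mul_apply, scal_apply, Matrix.smul_mulVec, ← Matrix.mulVec_mulVec, hA0,
          Units.val_inv_eq_inv_val, Units.val_mk0]
        congr 2
        apply y.1.injective
        rw [perm_apply_inv, hy, Matrix.mulVec_mulVec, Matrix.mul_nonsing_inv _ hu, Matrix.one_mulVec]
    have h8 := fr.H.mul_mem (fr.H.mul_mem (fr.H.inv_mem (fr.scal_mem (Units.mk0 μ hμ0)⁻¹)) h1) y.2
    rwa [inv_mul_cancel_left, inv_mul_cancel_right] at h8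
  have hord := orderOf_image e t y0 hy0 fr.Φ fr.ker hmem (Nat.card K + 1) (fun k => by
    rw [← hT k]
    have htk : ∀ z, (t ^ k) z = (T ^ k) z := by
      induction k with
      | zero => intro z; rfl
      | succ k ih => intro z; rw [pow_succ, pow_succ, Equiv.Perm.mul_apply, Module.End.mul_apply, ← ih, ht]
    simp only [htk, algebraMap_smul])
  rw [hKc, Nat.card_eq_fintype_card] at hord
  exact up8_not_singer hs hord

end Cfsg.Agent.H811.S69
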