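import Mathlib
import Cfsg.Agent.H403.ClassifyEven

/-!
# Singer similitudes of anisotropic planes over an extension field (helper811, S3469)

`exists_singer` : `K / F` finite fields of odd order, `[K : F] = m`; the anisotropic binary form over `K` has a similitude
`T` with a multiplier `c` in `F`, `c` not a square in `F`, `det T = c`, and `T ^ k` is a scalar of `F` iff
`q ^ m + 1` divides `k`.
-/

set_option autoImplicit false
set_option linter.style.haveILetI false

namespace Cfsg.Agent.H811.S69

open Cfsg.Agent.H403.Classify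

section

variable {F K : Type*} [Field F] [Field K] [Finite K] [Algebra F K]

theorem mem_range_of_pow (x : K) (h : x ^ Nat.card F = x) : ∃ c : F, algebraMap F K c = x := by
  classical
  haveI : Finite F := Finite.of_injective _ (algebraMap F K).injective
  letI : Fintype F := Fintype.ofFinite F
  by_contra hcon
  push Not at hcon
  have hq : 1 < Nat.card F := Finite.one_lt_card
  have h2 : (Polynomial.X ^ Nat.card F - Polynomial.X : Polynomial K) ≠ 0 := FiniteField.X_pow_card_sub_X_ne_zero K hq
  have h3 : insert x (Finset.univ.image (algebraMap F K)) ⊆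
      (Polynomial.X ^ Nat.card F - Polynomial.X : Polynomial K).roots.toFinset := by
    intro y hy
    rw [Multiset.mem_toFinset, Polynomial.mem_roots h2]
    rcases Finset.mem_insert.1 hy with rfl | hy
    · rw [Polynomial.IsRoot.def, Polynomial.eval_sub, Polynomial.eval_pow, Polynomial.eval_X, h, sub_self]
    · obtain ⟨c, -, rfl⟩ := Finset.mem_image.1 hy
      have h4 : algebraMap F K c ^ Nat.card F = algebraMap F K c := by
        rw [← map_pow, Nat.card_eq_fintype_card, FiniteField.pow_card]
      rw [Polynomial.IsRoot.def, Polynomial.eval_sub, Polynomial.eval_pow, Polynomial.eval_X, h4, sub_self]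
  have h4 := Finset.card_le_card h3
  rw [Finset.card_insert_of_notMem (by simpa using hcon), Finset.card_image_of_injective _ (algebraMap F K).injective,
    Finset.card_univ] at h4
  have h5 := Multiset.toFinset_card_le (Polynomial.X ^ Nat.card F - Polynomial.X : Polynomial K).roots
  have h6 := Polynomial.card_roots' (Polynomial.X ^ Nat.card F - Polynomial.X : Polynomial K)
  rw [FiniteField.X_pow_card_sub_X_natDegree_eq K hq] at h6
  rw [Nat.card_eq_fintype_card] at h5 h6 h4
  omega

open QuadraticAlgebra in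
/-- **Singer similitudes.** -/
theorem exists_singer (ho : Odd (Nat.card F)) {a b : K} (hab : Aniso a b) :
    ∃ (T : (Fin 2 → K) →ₗ[K] (Fin 2 → K)) (c : F), ¬ IsSquare c ∧
      (∀ z, bin a b (T z) = algebraMap F K c * bin a b z) ∧ LinearMap.det T = algebraMap F K c ∧
      ∀ k : ℕ, (∃ d : F, ∀ z, (T ^ k) z = algebraMap F K d • z) ↔ Nat.card K + 1 ∣ k := by
  classical
  haveI : Finite F := Finite.of_injective _ (algebraMap F K).injective
  have i1 : Fact (∀ r : K, r ^ 2 ≠ -b + a * r) := ⟨fun r hr => one_ne_zero (hab (-r) 1 (by linear_combination hr)).2⟩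
  haveI : Finite (QuadraticAlgebra K (-b) a) := Module.finite_of_finite K
  haveI : Module.Finite F K := Module.Finite.of_finite
  set L := QuadraticAlgebra K (-b) a with hL
  set q := Nat.card F with hq
  set Q := Nat.card K with hQ
  have hq1 : 1 < q := Finite.one_lt_card
  have hQ1 : 1 < Q := Finite.one_lt_card
  have hfr : Module.finrank K L = 2 := finrank_eq_two (-b) a
  have hLc : Nat.card L = Q ^ 2 := by
    rw [Module.natCard_eq_pow_finrank (K := K) (V := L), hfr]
  have hLu : Nat.card Lˣ = (Q + 1) * (Q - 1) := by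
    rw [Nat.card_units, hLc, ← Nat.sq_sub_sq, one_pow]
  have hKu : Nat.card Kˣ = Q - 1 := Nat.card_units K
  have hdvd : q - 1 ∣ Q - 1 := by
    rw [hQ, Module.natCard_eq_pow_finrank (K := F) (V := K)]
    simpa using Nat.sub_dvd_pow_sub_pow (Nat.card F) 1 (Module.finrank F K)
  obtain ⟨s, hs⟩ := hdvd
  have hnorm : ∀ z : L, Algebra.norm K z = z.norm := fun z => by
    rw [← det_toLinearMap_eq_norm, Algebra.norm_apply]
    rfl
  obtain ⟨α, hα⟩ := IsCyclic.exists_generator (α := Lˣ)
  have hαo : orderOf α = (Q + 1) * (Q - 1) := by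
    rw [orderOf_eq_card_of_forall_mem_zpowers hα, hLu]
  let ν : Lˣ →* Kˣ := Units.map (QuadraticAlgebra.norm (R := K) (a := -b) (b := a))
  have hν : Function.Surjective ν := by
    intro y
    obtain ⟨z, hz⟩ := FiniteField.norm_surjective (K := K) (K' := L) (y : K)
    have hz0 : z ≠ 0 := by
      rintro rfl
      rw [Algebra.norm_zero] at hz
      exact y.ne_zero hz.symm
    refine ⟨Units.mk0 z hz0, Units.ext ?_⟩
    show z.norm = y
    rw [← hnorm, hz]
  have hνo : orderOf (ν α) = Q - 1 := by
    rw [← hKu]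
    apply orderOf_eq_card_of_forall_mem_zpowers
    intro y
    obtain ⟨z, rfl⟩ := hν y
    obtain ⟨j, rfl⟩ := Subgroup.mem_zpowers_iff.1 (hα z)
    exact ⟨j, by simp⟩
  set ζ : Lˣ := α ^ s with hζ
  have hc1 : (((ν ζ : Kˣ)) : K) ^ q = (ν ζ : Kˣ) := by
    have h1 : (ν ζ) ^ (q - 1) = 1 := by
      rw [hζ, map_pow, ← pow_mul, mul_comm, ← hs, ← hνo, pow_orderOf_eq_one]
    have h2 : (ν ζ) ^ q = ν ζ := by
      conv_lhs => rw [show q = (q - 1) + 1 by omega]
      rw [pow_succ, h1, one_mul]
    rw [← Units.val_pow_eq_pow_val, h2]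
  obtain ⟨c, hc⟩ := mem_range_of_pow (F := F) _ hc1
  have hs0 : 0 < s := Nat.pos_of_ne_zero (by rintro rfl; omega)
  refine ⟨(basis (-b) a).equivFun.toLinearMap ∘ₗ LinearMap.mulLeft K (ζ : L) ∘ₗ
    (basis (-b) a).equivFun.symm.toLinearMap, c, ?_, ?_, ?_, ?_⟩
  · rintro ⟨d, hd⟩
    have hd0 : d ≠ 0 := by
      rintro rfl
      rw [hd] at hc
      simp only [mul_zero, map_zero] at hc
      exact (ν ζ).ne_zero hc.symm
    obtain ⟨u, hu⟩ := ho
    have h1 : c ^ u = 1 := by
      letI := Fintype.ofFinite F
      rw [hd, ← pow_two, ← pow_mul, show 2 * u = Fintype.card F - 1 by rw [← Nat.card_eq_fintype_card, ← hq]; omega]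
      exact FiniteField.pow_card_sub_one_eq_one d hd0
    have h2 : (ν α) ^ (s * u) = 1 := by
      apply Units.ext
      rw [pow_mul, ← map_pow, Units.val_pow_eq_pow_val, ← hζ, ← hc, ← map_pow, h1, map_one, Units.val_one]
    have h3 := orderOf_dvd_of_pow_eq_one h2
    rw [hνo, hs] at h3
    have h4 : (q - 1) * s ≤ s * u := Nat.le_of_dvd (Nat.mul_pos hs0 (by omega)) h3
    have h5 : q - 1 = 2 * u := by omega
    rw [h5] at h4
    have : 0 < u := by omega
    nlinarith
  · intro z
    obtain ⟨w, rfl⟩ := (basis (-b) a).equivFun.surjective z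
    have h1 : ∀ w : L, bin a b ((basis (-b) a).equivFun w) = w.norm := by
      intro w
      rw [norm_def]
      show w.re ^ 2 + a * w.re * w.im + b * w.im ^ 2 = _
      ring
    simp only [LinearMap.comp_apply, LinearEquiv.coe_coe, LinearEquiv.symm_apply_apply, LinearMap.mulLeft_apply]
    rw [h1, h1, map_mul, hc]
    rfl
  · have h1 : LinearMap.det ((basis (-b) a).equivFun.toLinearMap ∘ₗ LinearMap.mulLeft K (ζ : L) ∘ₗ
        (basis (-b) a).equivFun.symm.toLinearMap) = LinearMap.det (LinearMap.mulLeft K (ζ : L)) :=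
      LinearMap.det_conj _ _
    rw [h1, hc]
    show _ = (ζ : L).norm
    rw [← hnorm, Algebra.norm_apply]
    rfl
  · intro k
    have hT : ∀ (k : ℕ) (z : Fin 2 → K), (((basis (-b) a).equivFun.toLinearMap ∘ₗ LinearMap.mulLeft K (ζ : L) ∘ₗ
        (basis (-b) a).equivFun.symm.toLinearMap) ^ k) z =
          (basis (-b) a).equivFun ((ζ : L) ^ k * (basis (-b) a).equivFun.symm z) := by
      intro k
      induction k with
      | zero =>
        intro z
        rw [pow_zero, pow_zero, one_mul, LinearEquiv.apply_symm_apply]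
        rfl
      | succ k ih =>
        intro z
        rw [pow_succ, Module.End.mul_apply, ih]
        simp only [LinearMap.comp_apply, LinearEquiv.coe_coe, LinearEquiv.symm_apply_apply, LinearMap.mulLeft_apply]
        rw [pow_succ, mul_assoc]
    have key : (∃ d : F, ∀ z, (((basis (-b) a).equivFun.toLinearMap ∘ₗ LinearMap.mulLeft K (ζ : L) ∘ₗ
        (basis (-b) a).equivFun.symm.toLinearMap) ^ k) z = algebraMap F K d • z) ↔
        ∃ d : F, (ζ : L) ^ k = algebraMap F L d := by
      constructor
      · rintro ⟨d, hd⟩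
        refine ⟨d, ?_⟩
        have h1 := hd ((basis (-b) a).equivFun 1)
        rw [hT, LinearEquiv.symm_apply_apply, mul_one, ← map_smul] at h1
        have h2 := (basis (-b) a).equivFun.injective h1
        rw [h2, IsScalarTower.algebraMap_apply F K L, Algebra.smul_def, mul_one]
      · rintro ⟨d, hd⟩
        refine ⟨d, fun z => ?_⟩
        rw [hT, hd, IsScalarTower.algebraMap_apply F K L, ← Algebra.smul_def, map_smul, LinearEquiv.apply_symm_apply]
    rw [key]
    have hz1 : (∃ d : F, (ζ : L) ^ k = algebraMap F L d) ↔ (ζ ^ k) ^ (q - 1) = 1 := by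
      constructor
      · rintro ⟨d, hd⟩
        have hd0 : d ≠ 0 := by
          rintro rfl
          rw [map_zero] at hd
          exact (ζ ^ k).ne_zero (by rw [Units.val_pow_eq_pow_val, hd])
        apply Units.ext
        rw [Units.val_pow_eq_pow_val, Units.val_pow_eq_pow_val, hd, ← map_pow, hq]
        letI := Fintype.ofFinite F
        rw [Nat.card_eq_fintype_card, FiniteField.pow_card_sub_one_eq_one d hd0, map_one, Units.val_one]
      · intro h
        have h2 : (ζ ^ k) ^ q = ζ ^ k := by
          conv_lhs => rw [show q = (q - 1) + 1 by omega]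
          rw [pow_succ, h, one_mul]
        obtain ⟨d, hd⟩ := mem_range_of_pow (F := F) (((ζ ^ k : Lˣ)) : L) (by rw [← Units.val_pow_eq_pow_val, ← hq, h2])
        exact ⟨d, by rw [hd]; exact (Units.val_pow_eq_pow_val ζ k).symm⟩
    rw [hz1, hζ, ← pow_mul, ← pow_mul, ← orderOf_dvd_iff_pow_eq_one, hαo]
    have h5 : s * (k * (q - 1)) = k * (Q - 1) := by rw [hs]; ring
    rw [h5]
    exact Nat.mul_dvd_mul_iff_right (by omega)

end

end Cfsg.Agent.H811.S69
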