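import Cfsg.Agent.H214.S69.Defs
import Cfsg.Agent.H811.S69.Singer
import Cfsg.Agent.H150.SpForm

/-!
# S3469, T5a: similitudes of nonsquare multiplier, symplectic case (helper811)

* `semi_mul`, `semi_inv`, `semi_pow` : semilinear maps;
* `up8_iso`, `up8_not_two` : a prime divisor of `(q⁴ + 1) / 2` is adjacent to odd primes only;
* `orderOf_image` : the order of the image of a linear map in the group of a frame;
* `sp_linear`.
-/

set_option autoImplicit false
set_option linter.style.haveILetI false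

universe u v

namespace Cfsg.Agent.H811.S69

open Cfsg Cfsg.Agent Cfsg.Agent.H903.SylSemi Cfsg.Agent.H214.S69
open Cfsg.Agent.H403.Classify

theorem perm_apply_inv {α : Type*} (y : Equiv.Perm α) (v : α) : y (y⁻¹ v) = v := y.apply_symm_apply v

theorem perm_inv_apply {α : Type*} (y : Equiv.Perm α) (v : α) : y⁻¹ (y v) = v := y.symm_apply_apply v

section semi

variable {F V : Type*} [Field F] [AddCommGroup V] [Module F V]

theorem semi_mul {y y' : Equiv.Perm V} {θ θ' : F ≃+* F} (h : Semi F y θ) (h' : Semi F y' θ') :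
    Semi F (y * y') (θ * θ') :=
  ⟨fun u v => by rw [Equiv.Perm.mul_apply, Equiv.Perm.mul_apply, Equiv.Perm.mul_apply, h'.1, h.1],
    fun a v => by rw [Equiv.Perm.mul_apply, Equiv.Perm.mul_apply, h'.2, h.2]; rfl⟩

theorem semi_inv {y : Equiv.Perm V} {θ : F ≃+* F} (h : Semi F y θ) : Semi F y⁻¹ θ⁻¹ := by
  constructor
  · intro u v
    apply y.injective
    rw [h.1, perm_apply_inv, perm_apply_inv, perm_apply_inv]
  · intro a v
    apply y.injective
    rw [h.2, perm_apply_inv, perm_apply_inv]
    congr 1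
    exact (θ.apply_symm_apply a).symm

theorem semi_one : Semi F (1 : Equiv.Perm V) 1 := ⟨fun _ _ => rfl, fun _ _ => rfl⟩

theorem semi_pow {y : Equiv.Perm V} {θ : F ≃+* F} (h : Semi F y θ) (n : ℕ) : Semi F (y ^ n) (θ ^ n) := by
  induction n with
  | zero => rw [pow_zero, pow_zero]; exact semi_one
  | succ n ih => rw [pow_succ, pow_succ]; exact semi_mul ih h

theorem semi_scal (a : Fˣ) : Semi F (scal F V a) (1 : F ≃+* F) :=
  ⟨fun u v => smul_add (a : F) u v, fun b v => smul_comm (a : F) b v⟩

theorem semi_unique [Nontrivial V] {y : Equiv.Perm V} {θ θ' : F ≃+* F} (h : Semi F y θ) (h' : Semi F y θ') :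
    θ = θ' := by
  obtain ⟨v, hv⟩ := exists_ne (0 : V)
  have h0 : y v ≠ 0 := by
    intro h1
    apply hv
    apply y.injective
    have h2 := h.2 0 v
    rw [zero_smul, map_zero θ, zero_smul] at h2
    rw [h1, h2]
  ext a
  have h1 := (h.2 a v).symm.trans (h'.2 a v)
  exact smul_left_injective F h0 h1

/-- a map with nontrivial companion is not a scalar -/
theorem semi_ne_scal [Nontrivial V] {y : Equiv.Perm V} {θ : F ≃+* F} (h : Semi F y θ) (hθ : θ ≠ 1) (a : Fˣ) :
    y ≠ scal F V a := by
  rintro rfl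
  exact hθ (semi_unique h (semi_scal a))

end semi

section up

variable {q : ℕ} {G : Type*} [Group G]

theorem up8_odd (h : Up8 q G) : Odd q := by
  obtain ⟨f, -, rfl⟩ := h.pow
  exact Odd.pow (by decide)

theorem up8_dvd (h : Up8 q G) : 7 ∣ q := by
  obtain ⟨f, hf, rfl⟩ := h.pow
  exact dvd_pow_self 7 (by omega)

theorem up8_iso (h : Up8 q G) {r : ℕ} (hr : r.Prime) (hrm : r ∣ H202.T.mm q) {x : G} (hx : r ∣ orderOf x) :
    orderOf x ∣ H202.T.mm q :=
  (h.up x).iso (by norm_num) (by norm_num) (up8_dvd h) (up8_odd h) hr hrm hx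

/-- an element order divisible by a prime divisor of `mm q` is odd -/
theorem up8_not_two (h : Up8 q G) {r : ℕ} (hr : r.Prime) (hrm : r ∣ H202.T.mm q) {x : G} (hx : r ∣ orderOf x)
    (h2 : 2 ∣ orderOf x) : False := by
  have h1 := h2.trans (up8_iso h hr hrm hx)
  have h3 := H202.T.mm_mod (up8_odd h)
  omega

theorem up8_three_le (h : Up8 q G) : 3 ≤ q := by
  have h1 := Nat.le_of_dvd (up8_odd h).pos (up8_dvd h)
  omega

/-- no element order is a multiple of `q ^ 4 + 1` -/
theorem up8_not_singer (h : Up8 q G) {x : G} (hx : orderOf x = q ^ 4 + 1) : False := by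
  obtain ⟨r, hr, hrm⟩ := H202.T.exists_prime_mm (up8_three_le h)
  have h1 := H202.T.two_mm (up8_odd h)
  rw [← h1] at hx
  exact up8_not_two h hr hrm (x := x) (by rw [hx]; exact hrm.mul_left 2) (by rw [hx]; exact Dvd.intro _ rfl)

end up

section image

variable {F X V M : Type*} [Field F] [AddCommGroup X] [Module F X] [AddCommGroup V] [Module F V] [Nontrivial V]
  [Group M]

/-- the order of the image of a linear map in a group of semilinear maps modulo scalars -/
theorem orderOf_image (e : X ≃ₗ[F] V) (t : Equiv.Perm V) (y : Equiv.Perm X) (hy : ∀ x, e (y x) = t (e x))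
    {H : Subgroup (Equiv.Perm X)} (Φ : ↥H →* M)
    (ker : ∀ y : ↥H, Φ y = 1 ↔ ∃ a : Fˣ, (y : Equiv.Perm X) = scal F X a) (hyH : y ∈ H) (N : ℕ)
    (hN : ∀ k : ℕ, (∃ d : F, ∀ z, (t ^ k) z = d • z) ↔ N ∣ k) : orderOf (Φ ⟨y, hyH⟩) = N := by
  have hk : ∀ (k : ℕ) (x : X), e ((y ^ k) x) = (t ^ k) (e x) := by
    intro k
    induction k with
    | zero => intro x; rfl
    | succ k ih => intro x; rw [pow_succ, pow_succ, Equiv.Perm.mul_apply, Equiv.Perm.mul_apply, ih, hy]
  apply H150.orderOf_eq_of_forall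
  intro k
  rw [← hN k, ← map_pow, ker]
  constructor
  · rintro ⟨a, ha⟩
    have ha' : y ^ k = scal F X a := ha
    refine ⟨a, fun z => ?_⟩
    obtain ⟨x, rfl⟩ := e.surjective z
    rw [← hk, ha', scal_apply, map_smul]
  · rintro ⟨d, hd⟩
    have hd0 : d ≠ 0 := by
      rintro rfl
      obtain ⟨v, hv⟩ := exists_ne (0 : V)
      apply hv
      apply (t ^ k).injective
      rw [hd, hd, zero_smul, smul_zero]
    refine ⟨Units.mk0 d hd0, ?_⟩
    show y ^ k = _
    ext x
    apply e.injective
    rw [hk, hd, scal_apply, map_smul]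
    rfl

end image

section cross

variable {K : Type*} [Field K]

theorem cross_map (T : (Fin 2 → K) →ₗ[K] (Fin 2 → K)) (u v : Fin 2 → K) :
    T u 0 * T v 1 - T u 1 * T v 0 = LinearMap.det T * (u 0 * v 1 - u 1 * v 0) := by
  have h1 : ∀ w : Fin 2 → K, T w = (LinearMap.toMatrix' T).mulVec w := fun w => (LinearMap.toMatrix'_mulVec T w).symm
  rw [h1 u, h1 v, ← LinearMap.det_toMatrix' T, Matrix.det_fin_two]
  simp only [Matrix.mulVec, dotProduct, Fin.sum_univ_two]
  ring

end cross

section quad

variable {F : Type*} [Field F] [Fintype F]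

/-- the product of two nonsquares is a square -/
theorem exists_sq_mul (ho : Odd (Fintype.card F)) {c τ : F} (hc : ¬ IsSquare c) (hτ : ¬ IsSquare τ) :
    ∃ μ : F, μ ≠ 0 ∧ c = μ ^ 2 * τ := by
  classical
  have hchar : ringChar F ≠ 2 := by
    intro h
    have := FiniteField.even_card_of_char_two h
    rw [Nat.odd_iff] at ho
    omega
  have hc0 : c ≠ 0 := by rintro rfl; exact hc ⟨0, by simp⟩
  have hτ0 : τ ≠ 0 := by rintro rfl; exact hτ ⟨0, by simp⟩
  have h1 := (quadraticChar_neg_one_iff_not_isSquare (F := F) (a := c)).2 hc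
  have h2 := (quadraticChar_neg_one_iff_not_isSquare (F := F) (a := τ)).2 hτ
  have h3 : quadraticChar F (c * τ) = 1 := by rw [map_mul, h1, h2]; norm_num
  obtain ⟨d, hd⟩ := (quadraticChar_one_iff_isSquare (mul_ne_zero hc0 hτ0)).1 h3
  refine ⟨d / τ, ?_, ?_⟩
  · intro h0
    rcases div_eq_zero_iff.1 h0 with h | h
    · rw [h, mul_zero] at hd
      exact mul_ne_zero hc0 hτ0 hd
    · exact hτ0 h
  · field_simp
    linear_combination hd

end quad

theorem exists_aniso_odd {K : Type*} [Field K] [Finite K] (ho : Odd (Nat.card K)) :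
    ∃ a b : K, H403.Classify.Aniso a b := by
  classical
  letI := Fintype.ofFinite K
  have hchar : ringChar K ≠ 2 := by
    intro h
    have := FiniteField.even_card_of_char_two h
    rw [Nat.card_eq_fintype_card, Nat.odd_iff] at ho
    omega
  obtain ⟨d, hd⟩ := FiniteField.exists_nonsquare hchar
  refine ⟨0, -d, fun z w h => ?_⟩
  have h1 : z ^ 2 = d * w ^ 2 := by linear_combination h
  by_cases hw : w = 0
  · rw [hw] at h1
    exact ⟨by simpa using h1, hw⟩
  · exact absurd ⟨z / w, by field_simp; linear_combination -h1⟩ hd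

/-- **T5a, symplectic similitudes.** -/
theorem sp_linear {F : Type} [Field F] [Fintype F] [CharP F 7] {M : Type u} [Group M] [Finite M]
    (hs : Up8 (Fintype.card F) M) (fr : SpFrame F 4 M) (y : ↥fr.H) {τ : F} (hy : Semi F y.1 (RingEquiv.refl F))
    (hτ : ∀ u v, sympForm 4 F (y.1 u) (y.1 v) = τ * sympForm 4 F u v) : IsSquare τ := by
  classical
  by_contra hns
  haveI : Fact (Nat.Prime 7) := ⟨by norm_num⟩
  haveI : NeZero 4 := ⟨by norm_num⟩
  set K := FiniteField.Extension F 7 4 with hK
  have hKc : Nat.card K = Nat.card F ^ 4 := FiniteField.natCard_extension F 7 4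
  have hfr : Module.finrank F K = 4 := FiniteField.finrank_extension F 7 4
  haveI : Module.Finite F K := Module.Finite.of_finite
  have ho : Odd (Fintype.card F) := up8_odd hs
  have ho' : Odd (Nat.card F) := by rwa [Nat.card_eq_fintype_card]
  obtain ⟨a, b, hab⟩ := exists_aniso_odd (K := K) (by rw [hKc]; exact ho'.pow)
  obtain ⟨T, c, hc, -, hdet, hT⟩ := exists_singer (F := F) (K := K) ho' hab
  have hc0 : c ≠ 0 := by rintro rfl; exact hc ⟨0, by simp⟩
  have hdet0 : LinearMap.det T ≠ 0 := by
    rw [hdet]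
    exact fun h => hc0 ((algebraMap F K).injective (by rw [h, map_zero]))
  let t : Equiv.Perm (Fin 2 → K) := (LinearMap.equivOfDetNeZero T hdet0).toEquiv
  have ht : ∀ z, t z = T z := fun z => rfl
  let B : LinearMap.BilinForm F (Fin 2 → K) :=
    LinearMap.mk₂ F (fun u v : Fin 2 → K => Algebra.trace F K (u 0 * v 1 - u 1 * v 0))
      (fun u u' v => by rw [← map_add]; congr 1; simp only [Pi.add_apply]; ring)
      (fun d u v => by rw [← map_smul]; congr 1; simp only [Pi.smul_apply, Algebra.smul_def]; ring)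
      (fun u v v' => by rw [← map_add]; congr 1; simp only [Pi.add_apply]; ring)
      (fun d u v => by rw [← map_smul]; congr 1; simp only [Pi.smul_apply, Algebra.smul_def]; ring)
  have hB : ∀ u v, B u v = Algebra.trace F K (u 0 * v 1 - u 1 * v 0) := fun u v => rfl
  have hBt : ∀ u v, B (t u) (t v) = c * B u v := by
    intro u v
    rw [hB, hB, ht, ht, cross_map, hdet, ← Algebra.smul_def, map_smul, smul_eq_mul]
  have hnd : ∀ x : K, (∀ y : K, Algebra.trace F K (x * y) = 0) → x = 0 := by
    intro x hx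
    by_contra hne
    obtain ⟨t, ht⟩ := Algebra.trace_surjective F K 1
    have h1 := hx (x⁻¹ * t)
    rw [← mul_assoc, mul_inv_cancel₀ hne, one_mul, ht] at h1
    exact one_ne_zero h1
  obtain ⟨e, he⟩ := ClassicalGeometry.SympIso.exists_linearEquiv_sympForm (k := 4) B
    (fun u => by rw [hB, mul_comm (u 0), sub_self, map_zero])
    (fun u hu => by
      have h0 : u 0 = 0 := hnd _ fun y => by
        have := hu ![0, y]
        rw [hB] at this
        simpa using this
      have h1 : u 1 = 0 := hnd _ fun y => by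
        have := hu ![y, 0]
        rw [hB] at this
        simpa using this
      funext i
      fin_cases i
      · exact h0
      · exact h1)
    (by rw [Module.finrank_pi_fintype]; simp [hfr])
  let y0 : Equiv.Perm (Fin 4 ⊕ Fin 4 → F) := (e.toEquiv.trans t).trans e.symm.toEquiv
  have hy0 : ∀ x, e (y0 x) = t (e x) := fun x => e.apply_symm_apply _
  obtain ⟨μ, hμ0, hμ⟩ := exists_sq_mul ho hc hns
  have hmem : y0 ∈ fr.H := by
    have hy0s : Semi F y0 (1 : F ≃+* F) := by
      constructor
      · intro u v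
        apply e.injective
        rw [map_add e, hy0, hy0, hy0, map_add e, ht, ht, ht, map_add T]
      · intro d v
        apply e.injective
        show e (y0 (d • v)) = e (d • y0 v)
        rw [map_smul e, hy0, hy0, map_smul e, ht, ht]
        exact (T.restrictScalars F).map_smul d (e v)
    have h1 : scal F _ (Units.mk0 μ hμ0)⁻¹ * (y0 * (y : Equiv.Perm _)⁻¹) ∈ fr.H := by
      apply fr.isom
      refine ⟨?_, fun u v => ?_⟩
      · have h2 := semi_mul (semi_scal (V := Fin 4 ⊕ Fin 4 → F) (Units.mk0 μ hμ0)⁻¹) (semi_mul hy0s (semi_inv hy))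
        have h3 : (1 : F ≃+* F) * (1 * (RingEquiv.refl F)⁻¹) = RingEquiv.refl F := rfl
        rwa [h3] at h2
      · have h4 : ∀ u, y.1 ((y.1)⁻¹ u) = u := fun u => perm_apply_inv _ _
        have h5 := hτ ((y.1)⁻¹ u) ((y.1)⁻¹ v)
        rw [h4, h4] at h5
        have hτ0 : τ ≠ 0 := by rintro rfl; exact hns ⟨0, by simp⟩
        have h6 : ∀ u v, sympForm 4 F (y0 u) (y0 v) = c * sympForm 4 F u v := fun u v => by
          rw [← he, ← he, hy0, hy0, hBt]
        have h7 : ∀ (d : F) (u v), sympForm 4 F (d • u) (d • v) = d ^ 2 * sympForm 4 F u v := fun d u v => by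
          rw [← he, ← he, map_smul, map_smul, map_smul, LinearMap.smul_apply, map_smul]
          simp only [smul_eq_mul]
          ring
        rw [Equiv.Perm.mul_apply, Equiv.Perm.mul_apply, Equiv.Perm.mul_apply, Equiv.Perm.mul_apply, scal_apply,
          scal_apply, h7, h6, h5, hμ, Units.val_inv_eq_inv_val, Units.val_mk0]
        field_simp
    have h8 := fr.H.mul_mem (fr.H.mul_mem (fr.H.inv_mem (fr.scal_mem (Units.mk0 μ hμ0)⁻¹)) h1) y.2
    rwa [inv_mul_cancel_left, inv_mul_cancel_right] at h8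
  have hord := orderOf_image e t y0 hy0 fr.Φ fr.ker hmem (Nat.card K + 1) (fun k => by
    rw [← hT k]
    have htk : ∀ z, (t ^ k) z = (T ^ k) z := by
      induction k with
      | zero => intro z; rfl
      | succ k ih => intro z; rw [pow_succ, pow_succ, Equiv.Perm.mul_apply, Module.End.mul_apply, ← ih, ht]
    simp only [htk, algebraMap_smul])
  rw [hKc, Nat.card_eq_fintype_card] at hord
  exact up8_not_singer hs hord

end Cfsg.Agent.H811.S69
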